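import Cfsg.Agent.Lib.Div.Square
import Cfsg.Agent.Lib.TwoPt.OddS
import Cfsg.Agent.Lib.Len8.Transfer
import Cfsg.Agent.Lib.Big.CoreKill
import Cfsg.Agent.Lib.Big.Walter

/-!
# Quasisimple groups with reflections: the Sylow structure
-/

set_option autoImplicit false
set_option linter.unusedSectionVars false

namespace Cfsg.Lib.Div
open Subgroup Cfsg.Lib Cfsg.Lib.FT
open scoped commutatorElement

variable {G : Type*} [Group G]

/-- a reflection -/
structure Rf (z r : G) : Prop where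
  sq : r * r = 1
  n1 : r ≠ 1
  nz : r ≠ z

/-- equality up to `z` -/
def Ez (z x y : G) : Prop := x = y ∨ x = y * z

/-- the hypotheses on involutions -/
structure HA0 (z : G) : Prop where
  zc : ∀ g, g * z = z * g
  zz : z * z = 1
  z1 : z ≠ 1
  r1 : ∀ {r u}, Rf z r → u * u = 1 → u * r = r * u → Ez z u 1 ∨ Ez z u r

/-- no reflection is a square -/
structure HA (z : G) : Prop extends HA0 z where
  r2 : ∀ {k}, ¬ Rf z (k * k)

theorem Ez.refl (z x : G) : Ez z x x := .inl rfl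
theorem Rf.inv {z r : G} (h : Rf z r) : r⁻¹ = r := inv_eq_of_mul_eq_one_right h.sq
theorem Rf.sq' {z r : G} (h : Rf z r) (x : G) : r * (r * x) = x := by rw [← mul_assoc, h.sq, one_mul]

theorem ez_one {z u : G} : Ez z u 1 ↔ u = 1 ∨ u = z := by simp [Ez]

namespace HA0
variable {z : G} (h : HA0 z)
include h

theorem zi : z⁻¹ = z := inv_eq_of_mul_eq_one_right h.zz
theorem zz' (x : G) : x * z * z = x := by rw [mul_assoc, h.zz, mul_one]
theorem zm (x y : G) : x * z * y = x * y * z := by rw [mul_assoc, ← h.zc, mul_assoc]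
theorem cz (g : G) : g * z * g⁻¹ = z := by rw [h.zc, mul_inv_cancel_right]
theorem ne_z (x : G) : x * z ≠ x := fun e => h.z1 (mul_eq_left.1 e)

theorem symm {x y : G} (e : Ez z x y) : Ez z y x := e.imp Eq.symm fun e => by rw [e, h.zz']
theorem trans {x y w : G} (e : Ez z x y) (e' : Ez z y w) : Ez z x w := by
  rcases e with rfl | rfl <;> rcases e' with rfl | rfl
  exacts [.inl rfl, .inr rfl, .inr rfl, .inl (h.zz' _)]
theorem mul {x y x' y' : G} (e : Ez z x x') (e' : Ez z y y') : Ez z (x * y) (x' * y') := by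
  rcases e with rfl | rfl <;> rcases e' with rfl | rfl
  exacts [.inl rfl, .inr (mul_assoc _ _ _).symm, .inr (h.zm _ _), .inl (by rw [← mul_assoc, h.zm x', h.zz'])]
theorem inv {x y : G} (e : Ez z x y) : Ez z x⁻¹ y⁻¹ := e.imp (congrArg _) fun e => by
  rw [e, mul_inv_rev, h.zi, h.zc]
theorem conj {x y : G} (e : Ez z x y) (g : G) : Ez z (g * x * g⁻¹) (g * y * g⁻¹) :=
  h.mul (h.mul (.refl _ g) e) (.refl _ _)
theorem sq_eq {x y : G} (e : Ez z x y) : x * x = y * y := by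
  rcases e with rfl | rfl
  exacts [rfl, by rw [← mul_assoc, h.zm y, h.zz']]
theorem comm {x y g : G} (e : Ez z x y) (c : g * y = y * g) : g * x = x * g := by
  rcases e with rfl | rfl
  exacts [c, by rw [← mul_assoc, c, h.zm]]
theorem ez_z (x : G) : Ez z (x * z) x := .inr rfl
theorem of_mul_inv {x y : G} (e : Ez z (x * y⁻¹) 1) : Ez z x y := by
  simpa using h.mul e (.refl _ y)

theorem rf_ez {x y : G} (e : Ez z x y) (hy : Rf z y) : Rf z x := by
  rcases e with rfl | rfl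
  exacts [hy, ⟨(h.sq_eq (h.ez_z y)).trans hy.sq, fun e => hy.nz (by rw [← h.zz' y, e, one_mul]),
    fun e => hy.n1 (by rw [← h.zz' y, e, h.zz])⟩]
theorem rf_conj {r : G} (hr : Rf z r) (g : G) : Rf z (g * r * g⁻¹) :=
  ⟨by simp [mul_assoc, hr.sq'], by simpa using hr.n1, fun e => hr.nz (by
    rw [← h.cz g] at e; simpa using e)⟩
theorem rf_of {r : G} (h1 : r * r = 1) (h2 : ¬ Ez z r 1) : Rf z r :=
  ⟨h1, fun e => h2 (ez_one.2 (.inl e)), fun e => h2 (ez_one.2 (.inr e))⟩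
theorem rf_ne {r : G} (hr : Rf z r) : ¬ Ez z r 1 := fun e => (ez_one.1 e).elim hr.n1 hr.nz
theorem rr {r u : G} (hr : Rf z r) (hu : Rf z u) (c : u * r = r * u) : Ez z u r :=
  (h.r1 hr hu.sq c).resolve_left (h.rf_ne hu)
theorem inv4 {x : G} (e : x * x = z) : x⁻¹ = x * z :=
  inv_eq_of_mul_eq_one_right (by rw [← mul_assoc, e, h.zz])

theorem sq_div {x y : G} (hx : x * x = z) (hy : y * y = z) (c : x * y = y * x) : y * x⁻¹ * (y * x⁻¹) = 1 := by
  rw [← sq, (Commute.inv_right c.symm).mul_pow, inv_pow, sq, sq, hx, hy, mul_inv_cancel]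

/-- the stabiliser of `x` up to `z` -/
def NZ (x : G) : Subgroup G where
  carrier := {g | Ez z (g * x * g⁻¹) x}
  mul_mem' := fun {a b} ha hb => h.trans (by simpa [mul_assoc] using h.conj hb a) ha
  one_mem' := by simpa using Ez.refl z x
  inv_mem' := fun {a} ha => h.symm (by simpa [mul_assoc] using h.conj ha a⁻¹)

theorem mem_nz {x g : G} : g ∈ h.NZ x ↔ Ez z (g * x * g⁻¹) x := Iff.rfl
theorem nz_of_comm {x g : G} (c : g * x = x * g) : g ∈ h.NZ x := .inl (by rw [c, mul_inv_cancel_right])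
theorem nz_of_ac {x g : G} (c : g * x = x * g * z) : g ∈ h.NZ x := .inr (by rw [c, h.zm, mul_inv_cancel_right])
theorem nz_cases {x g : G} (c : g ∈ h.NZ x) : g * x = x * g ∨ g * x = x * g * z :=
  c.imp mul_inv_eq_iff_eq_mul.1 fun e => by rw [mul_inv_eq_iff_eq_mul.1 e, h.zm]

/-- the four-group of a reflection -/
def W {t : G} (ht : Rf z t) : Subgroup G where
  carrier := {u | Ez z u 1 ∨ Ez z u t}
  mul_mem' := by
    rintro a b (ha | ha) (hb | hb) <;> have := h.mul ha hb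
    exacts [.inl (by simpa using this), .inr (by simpa using this), .inr (by simpa using this),
      .inl (by simpa [ht.sq] using this)]
  one_mem' := .inl (.refl _ _)
  inv_mem' := fun ha => ha.imp (fun e => by simpa using h.inv e) fun e => by simpa [ht.inv] using h.inv e

theorem w_sq {t u : G} (ht : Rf z t) (hu : u ∈ h.W ht) : u * u = 1 :=
  hu.elim (fun e => by simpa using h.sq_eq e) fun e => (h.sq_eq e).trans ht.sq
theorem w_comm {t u g : G} (ht : Rf z t) (hu : u ∈ h.W ht) (c : g * t = t * g) : g * u = u * g :=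
  hu.elim (fun e => h.comm e (by simp)) fun e => h.comm e c

end HA0

namespace HA
variable {z : G} (h : HA z)
include h

theorem sq4 {k : G} (e : k * k * (k * k) = 1) : Ez z (k * k) 1 := by_contra fun c => h.r2 (h.rf_of e c)

theorem pw {w : G} (hw : ∃ k, w ^ 2 ^ k = 1) (w2 : w * w ≠ 1) : ∃ n : ℕ, w ^ n * w ^ n = z := by
  obtain ⟨k, hk⟩ := hw
  induction k generalizing w with
  | zero => exact (w2 (by simpa using congrArg (fun a => a * a) hk)).elim
  | succ k ih =>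
    by_cases c : w * w * (w * w) = 1
    · exact ⟨1, by simpa using (ez_one.1 (h.sq4 c)).resolve_left w2⟩
    · obtain ⟨n, hn⟩ := ih c (by rwa [← sq, ← pow_mul, ← pow_succ'])
      exact ⟨2 * n, by rwa [pow_mul, sq]⟩

end HA

theorem two_el {T : Subgroup G} (hT : IsPGroup 2 T) {x : G} (hx : x ∈ T) : ∃ k, x ^ 2 ^ k = 1 :=
  (hT ⟨x, hx⟩).imp fun _ e => congrArg Subtype.val e

/-- the global hypotheses -/
structure HG (z : G) : Prop extends HA z where
  perf : commutator G = ⊤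
  simple : IsSimpleGroup (G ⧸ center G)
  nab : ¬ IsMulCommutative (G ⧸ center G)
  zp : IsPGroup 2 (center G)
  cen : ∀ {r}, Rf z r → r ∉ center G

variable [Finite G]

theorem syl_conj (T : Sylow 2 G) {M P : Subgroup G} (hM : (T : Subgroup G) ≤ M) (hP : IsPGroup 2 P) (hPM : P ≤ M) :
    ∃ n ∈ M, ∀ y ∈ P, n * y * n⁻¹ ∈ (T : Subgroup G) := by
  obtain ⟨n, hn, e⟩ := (IsSylowIn.of_sylow_le T hM).exists_conj_le hP hPM
  exact ⟨n, hn, fun y hy => e ⟨y, hy, rfl⟩⟩

theorem HA0.ext1 {z : G} (h : HA0 z) (T : Sylow 2 G) {x v g : G} (hx : (T : Subgroup G) ≤ h.NZ x)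
    (e : Ez z (g * v * g⁻¹) x) :
    ∃ g, Ez z (g * v * g⁻¹) x ∧ ∀ y ∈ (T : Subgroup G), y ∈ h.NZ v → g * y * g⁻¹ ∈ (T : Subgroup G) := by
  obtain ⟨n, hn, e'⟩ := syl_conj T hx (P := g •ᶜ ((T : Subgroup G) ⊓ h.NZ v))
    ((T.isPGroup'.to_le inf_le_left).map _) (by
      rintro _ ⟨y, hy, rfl⟩
      refine h.trans (h.conj (h.symm e) _) (h.trans ?_ e)
      simpa [mul_assoc] using h.conj hy.2 g)
  refine ⟨n * g, h.trans (by simpa [mul_assoc] using h.conj e n) hn, fun y h1 h2 => ?_⟩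
  simpa [mul_assoc] using e' _ ⟨y, ⟨h1, h2⟩, rfl⟩

namespace HG
variable {z : G} (h : HG z) (T : Sylow 2 G)
include h

theorem cen_le : center G ≤ T := (IsSylowIn.of_sylow_top T).le_of_normalizes h.zp le_top le_normalizer_of_normal

omit [Finite G] in
theorem z_mem : z ∈ center G := mem_center_iff.2 h.zc

theorem zT : z ∈ (T : Subgroup G) := h.cen_le T h.z_mem

theorem mem_of_mk {x : G} (hx : (x : G ⧸ center G) ∈ (T : Subgroup G).map (QuotientGroup.mk' _)) :
    x ∈ (T : Subgroup G) := by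
  obtain ⟨y, hy, e⟩ := hx
  simpa using (T : Subgroup G).mul_mem hy (h.cen_le T (QuotientGroup.eq.1 e))

theorem zs {x : G} (hx : x ∈ (T : Subgroup G)) (h1 : x ∉ center G) (h2 : x * x ∈ center G) :
    ∃ g, g * x * g⁻¹ ∈ (T : Subgroup G) ∧ ¬ Ez z (g * x * g⁻¹) x := by
  have := h.simple
  by_contra! c
  refine h1 ((QuotientGroup.eq_one_iff x).1 ?_)
  refine mem_bot.1 (pg_center_eq_bot_of_simple h.nab ▸ zstar_center (Big.oddCore_eq_bot_of_simple h.nab)
    (by rw [sq, ← QuotientGroup.mk_mul, QuotientGroup.eq_one_iff]; exact h2)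
    (isIsolated_of_sylow (T.mapSurjective (QuotientGroup.mk'_surjective (center G))) ⟨x, hx, rfl⟩ fun g hg => ?_))
  obtain ⟨g, rfl⟩ := QuotientGroup.mk_surjective g
  rcases c g (h.mem_of_mk T hg) with e | e
  · exact congrArg QuotientGroup.mk e
  · exact (congrArg QuotientGroup.mk e).trans (QuotientGroup.mk_mul_of_mem _ h.z_mem)

theorem wal (hT : ∀ x ∈ (T : Subgroup G), x * x ∈ center G) {x y : G} (hx : x ∈ (T : Subgroup G))
    (hy : y ∈ (T : Subgroup G)) (h1 : x ∉ center G) (h2 : y ∉ center G) :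
    ∃ g, (g * x * g⁻¹)⁻¹ * y ∈ center G := by
  have := h.simple
  let S := T.mapSurjective (QuotientGroup.mk'_surjective (center G))
  have hS : ∀ a ∈ (S : Subgroup (G ⧸ center G)), a⁻¹ = a := by
    rintro _ ⟨a, ha, rfl⟩
    exact inv_eq_of_mul_eq_one_right ((QuotientGroup.eq_one_iff _).2 (hT a ha))
  obtain ⟨-, k, -, hk⟩ := (Wal.walter _ h.nab (Big.ab2_of_sylow S ⟨⟨fun a b => Subtype.ext (by
    have := hS _ (mul_mem a.2 b.2)
    rw [mul_inv_rev, hS _ a.2, hS _ b.2] at this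
    exact this.symm)⟩⟩)).tor _ (.of_sylow_top S)
  obtain ⟨g, -, e⟩ := hk x ⟨x, hx, rfl⟩ y ⟨y, hy, rfl⟩ (by simpa using h1) (by simpa using h2)
  obtain ⟨g, rfl⟩ := QuotientGroup.mk_surjective g
  exact ⟨g, QuotientGroup.eq.1 e⟩

theorem tt {x : G} (hx : (T : Subgroup G) ≤ h.NZ x) {y : G} (hy : y ∈ (T : Subgroup G)) (c : y * x ≠ x * y)
    {r : G} (hr : r * r = 1) : ∃ g, g * r * g⁻¹ ∈ (T : Subgroup G) ∧ g * r * g⁻¹ * x = x * (g * r * g⁻¹) := by
  obtain ⟨g, h1, h2⟩ := thompson_transfer' (GW.index_ne_two_of_perfect h.perf) T (M := (T : Subgroup G) ⊓ C1[x])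
    (relIndex_eq_two_iff.2 ⟨y, hy, fun b hb => by
      have c' := (h.nz_cases (hx hy)).resolve_left c
      simp only [mem_inf, mem_centralizer_singleton_iff, hb, mul_mem hb hy, true_and]
      rcases h.nz_cases (hx hb) with e | e
      · exact .inr ⟨e, fun e' => c (mul_left_cancel (a := b) (by rw [← mul_assoc, e', ← mul_assoc, ← e, mul_assoc]))⟩
      · refine .inl ⟨?_, fun e' => h.ne_z _ (e.symm.trans e')⟩
        rw [mul_assoc, c', ← mul_assoc, ← mul_assoc, e, h.zm, h.zz', mul_assoc]⟩) (by rw [sq, hr])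
  exact ⟨g, h1, mem_centralizer_singleton_iff.1 h2⟩

theorem exists_t {r0 : G} (hr0 : Rf z r0) : ∃ t ∈ (T : Subgroup G), Rf z t ∧ (T : Subgroup G) ≤ h.NZ t := by
  by_contra! c
  have hz : ∀ u ∈ zpowers z, Ez z u 1 := fun u hu => ez_one.2 (pg_mem_zpowers_order_two (by rw [sq, h.zz]) hu)
  have : (zpowers z).Normal := pg_normal_zpowers_of_mem_center h.z_mem
  obtain ⟨g0, hg0⟩ := exists_conj_mem_sylow T (pzp 1 (by rw [pow_one, sq, hr0.sq]))
  have hr1 := h.rf_conj hr0 g0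
  obtain ⟨x, hx, x1, x2, x3⟩ := pg_exists_fixed_mod (K := zpowers z) T.isPGroup' T.isPGroup' le_normalizer
    (lt_of_le_of_ne (zpowers_le.2 (h.zT T)) fun e => h.rf_ne hr1 (hz _ (e ▸ hg0 _ (mem_zpowers _))))
    le_normalizer_of_normal le_normalizer_of_normal
  have hn : (T : Subgroup G) ≤ h.NZ x := fun g hg => h.of_mul_inv (by
    simpa [commutatorElement_def, mul_assoc] using h.inv (hz _ (x3 g hg)))
  have xx : x * x = z := (ez_one.1 (hz _ (sq x ▸ x2))).resolve_left fun e => c x hx (h.rf_of e fun e' => x1 (by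
    rcases ez_one.1 e' with rfl | rfl
    exacts [one_mem _, mem_zpowers _])) hn
  obtain ⟨r, hrT, hr, rx⟩ : ∃ r ∈ (T : Subgroup G), Rf z r ∧ r * x = x * r := by
    by_cases c1 : g0 * r0 * g0⁻¹ * x = x * (g0 * r0 * g0⁻¹)
    · exact ⟨_, hg0 _ (mem_zpowers _), hr1, c1⟩
    · obtain ⟨g, h1, h2⟩ := h.tt T hn (hg0 _ (mem_zpowers _)) c1 hr0.sq
      exact ⟨_, h1, h.rf_conj hr0 g, h2⟩
  have : (zpowers (⟨x, hx⟩ : (T : Subgroup G))).Normal := ⟨by
    rintro _ ⟨k, rfl⟩ g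
    rw [← conj_zpow]
    refine zpow_mem ?_ k
    rcases hn g.2 with e | e
    · exact ⟨1, Subtype.ext (by simpa using e.symm)⟩
    · exact ⟨-1, Subtype.ext (by simpa [h.inv4 xx] using e.symm)⟩⟩
  obtain ⟨M, hM, hc, hxM, hs⟩ := pg_exists_selfCentralizing_normal_ge T.isPGroup'
    (zpowers (⟨x, hx⟩ : (T : Subgroup G))) inferInstance
  replace hxM := hxM (mem_zpowers _)
  have cm : ∀ a ∈ M, ∀ b ∈ M, (a : G) * b = b * a := fun a ha b hb => congrArg Subtype.val (setLike_mul_comm ha hb)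
  have u1 : ∀ a ∈ M, (a : G) * a = 1 → Ez z a 1 := fun a ha e => by_contra fun e' => c a a.2 (h.rf_of e e') fun g hg =>
    h.rr (h.rf_of e e') (h.rf_conj (h.rf_of e e') g) (cm _ (hM.conj_mem a ha ⟨g, hg⟩) a ha)
  have key : ∀ r : G, r * x = x * r → ∀ w ∈ M, r * w * r⁻¹ = (w : G)⁻¹ → Ez z w 1 := fun r rx w hw e => by
    refine u1 w hw (by_contra fun w2 => ?_)
    obtain ⟨n, hn⟩ := h.pw (two_el T.isPGroup' w.2) w2
    have a1 : r * (w : G) ^ n = (w : G) ^ n * r := h.comm (h.of_mul_inv (u1 _ (mul_mem (pow_mem hw n) (inv_mem hxM))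
      (h.sq_div xx hn (cm _ hxM _ (pow_mem hw n))))) rx
    have a2 : r * (w : G) ^ n * r⁻¹ = ((w : G) ^ n)⁻¹ := by rw [← conj_pow, e, inv_pow]
    rw [a1, mul_inv_cancel_right, h.inv4 hn] at a2
    exact h.ne_z _ a2.symm
  obtain ⟨m, hm⟩ := (TP.isCyclic_of_central_four (T.isPGroup'.to_subgroup M) (f := ⟨_, hxM⟩) (fun a b ha hb => by
    have : ∀ a : M, orderOf a = 2 → (a.1 : G) = z := fun a ha => (ez_one.1 (u1 _ a.2 (congrArg (fun a : M => (a.1 : G))
      (BSW.mul_self_of_orderOf_two ha)))).resolve_left fun e => ne_one_of_orderOf_two ha (Subtype.ext (Subtype.ext e))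
    exact Subtype.ext (Subtype.ext ((this a ha).trans (this b hb).symm)))
    (fun e => h.z1 (xx.symm.trans (congrArg (fun a : M => (a.1 : G)) e)))
    (fun a => Subtype.ext (Subtype.ext (cm _ a.2 _ hxM)))).exists_generator
  have hs' : ∀ y : (T : Subgroup G), (y : G) * m.1 = m.1 * y → y ∈ M := fun y e => hs fun a ha => by
    obtain ⟨k, hk⟩ := hm ⟨a, ha⟩
    obtain rfl : m.1 ^ k = a := congrArg Subtype.val hk
    exact (Commute.zpow_left (Subtype.ext e.symm : Commute m.1 y) k).eq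
  have k2 : ∀ r ∈ (T : Subgroup G), Rf z r → r * x = x * r → r * m.1 = m.1 * r * z := fun r hrT hr rx => by
    have a1 := key r rx _ (mul_mem (hM.conj_mem _ m.2 ⟨r, hrT⟩) (inv_mem m.2)) (by
      simp [hr.inv, mul_assoc, hr.sq'])
    exact (h.nz_cases (h.of_mul_inv a1)).resolve_left fun e => h.rf_ne hr (u1 _ (hs' ⟨r, hrT⟩ e) hr.sq)
  refine c r hrT hr fun g hg => ?_
  have hr' := h.rf_conj hr g
  have hT' : g * r * g⁻¹ ∈ (T : Subgroup G) := mul_mem (mul_mem hg hrT) (inv_mem hg)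
  have a1 := k2 _ hT' hr' (by
    have := h.comm (hn (inv_mem hg)) rx
    rw [inv_inv] at this
    calc _ = g * (r * (g⁻¹ * x * g)) * g⁻¹ := by group
      _ = _ := by rw [this]; group)
  have a2 := key r rx _ (hs' ⟨_, mul_mem hT' hrT⟩ (by
    show g * r * g⁻¹ * r * m.1 = m.1 * (g * r * g⁻¹ * r)
    rw [mul_assoc _ r, k2 r hrT hr rx, ← mul_assoc, ← mul_assoc, a1, h.zm, h.zz', mul_assoc])) (by
      show r * (g * r * g⁻¹ * r) * r⁻¹ = (g * r * g⁻¹ * r)⁻¹
      rw [mul_inv_rev, hr'.inv, hr.inv, mul_assoc, mul_assoc, hr.sq, mul_one])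
  exact h.of_mul_inv (by rwa [hr.inv])

end HG

end Cfsg.Lib.Div
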