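import Cfsg.Agent.Lib.Div.FusA

/-!
# Quasisimple groups with reflections: the configuration and the transfer cases
-/

set_option autoImplicit false
set_option linter.unusedSectionVars false

namespace Cfsg.Lib.Div
open Subgroup Cfsg.Lib Cfsg.Lib.FT
open scoped commutatorElement

variable {G : Type*} [Group G]

/-- the configuration in the Sylow 2-subgroup -/
structure Cf (z : G) (T : Sylow 2 G) (t s : G) (A : Subgroup G) : Prop extends HG z where
  ht : Rf z t
  hs : Rf z s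
  sT : s ∈ (T : Subgroup G)
  st : s * t = t * s * z
  nz : (T : Subgroup G) ≤ toHG.toHA.toHA0.NZ t
  AT : A ≤ T
  tA : t ∈ A
  zA : z ∈ A
  cm : ∀ {a}, a ∈ A → ∀ {b}, b ∈ A → a * b = b * a
  nA : ∀ {g}, g ∈ (T : Subgroup G) → ∀ {a}, a ∈ A → g * a * g⁻¹ ∈ A
  out : ∀ {y}, y ∈ (T : Subgroup G) → y * t = t * y → y ∉ A → y * y = z ∧ (∃ x ∈ A, x * x = z) ∧
    ∀ {y'}, y' ∈ (T : Subgroup G) → y' * t = t * y' → y' ∉ A → y * y' ∈ A

theorem conj_comm {g a x : G} (h : a * (g⁻¹ * x * g) = g⁻¹ * x * g * a) : g * a * g⁻¹ * x = x * (g * a * g⁻¹) :=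
  calc _ = g * (a * (g⁻¹ * x * g)) * g⁻¹ := by group
    _ = _ := by rw [h]; group

theorem cmem {T : Subgroup G} {g a : G} (hg : g ∈ T) (ha : a ∈ T) : g * a * g⁻¹ ∈ T :=
  mul_mem (mul_mem hg ha) (inv_mem hg)

variable [Finite G]

theorem HG.exists_cf {z : G} (h : HG z) (T : Sylow 2 G) {r0 : G} (hr0 : Rf z r0) : ∃ t s A, Cf z T t s A := by
  obtain ⟨t, tT, ht, nz⟩ := h.exists_t T hr0
  obtain ⟨g, sT, hg⟩ := h.zs T tT (h.cen ht) (ht.sq ▸ one_mem _)
  have hs := h.rf_conj ht g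
  have st := (h.nz_cases (nz sT)).resolve_left fun e => hg (h.rr ht hs e)
  have c0 : ∀ {g}, g ∈ (T : Subgroup G) → ∀ {a}, a * t = t * a → g * a * g⁻¹ * t = t * (g * a * g⁻¹) :=
    fun {g} hg {a} e => conj_comm (h.comm (by simpa using (h.mem_nz).1 (nz (inv_mem hg))) e)
  have wT : h.W ht ≤ (T : Subgroup G) ⊓ C1[t] := fun u hu => ⟨by
    rcases hu with (rfl | rfl) | (rfl | rfl)
    exacts [one_mem _, mul_mem (one_mem _) (h.zT T), tT, mul_mem tT (h.zT T)],
    mem_centralizer_singleton_iff.2 (h.w_comm ht hu rfl).symm⟩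
  by_cases c : (T : Subgroup G) ⊓ C1[t] ≤ h.W ht
  · exact ⟨t, _, (T : Subgroup G) ⊓ C1[t], h, ht, hs, sT, st, nz, inf_le_left, wT (.inr (.refl _ _)),
      wT (.inl (ez_one.2 (.inr rfl))), fun ha _ hb => h.w_comm ht (c hb) (mem_centralizer_singleton_iff.1 ha.2),
      fun hg _ ha => ⟨cmem hg ha.1,
        mem_centralizer_singleton_iff.2 (c0 hg (mem_centralizer_singleton_iff.1 ha.2))⟩,
      fun h1 h2 h3 => (h3 ⟨h1, mem_centralizer_singleton_iff.2 h2⟩).elim⟩
  have nW : (T : Subgroup G) ≤ N[h.W ht] := fun g hg => mem_normalizer_fintype fun u hu =>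
    hu.imp (fun e => by simpa using h.conj e g) fun e => h.trans (h.conj e g) (nz hg)
  obtain ⟨x, ⟨xT, xt⟩, x1, x2, x3⟩ := pg_exists_fixed_mod (T.isPGroup'.to_le inf_le_left) T.isPGroup'
    (fun g hg => mem_normalizer_fintype fun u hu => ⟨cmem hg hu.1,
      mem_centralizer_singleton_iff.2 (c0 hg (mem_centralizer_singleton_iff.1 hu.2))⟩)
    (lt_of_le_of_ne wT fun e => c e.ge) (inf_le_left.trans nW) nW
  replace xt := mem_centralizer_singleton_iff.1 xt
  rw [sq] at x2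
  have xx : x * x = z := (ez_one.1 (x2.resolve_right fun e => h.r2 (h.rf_ez e ht))).resolve_left fun e =>
    x1 (h.r1 ht e xt)
  have kk : ∀ y ∈ (T : Subgroup G), y * t = t * y → y * y * x = x * (y * y) → y * y * (y * y) ≠ 1 →
      y * x = x * y := fun y hy yt e y4 => by
    obtain ⟨n, hn⟩ := h.pw (two_el T.isPGroup' (mul_mem hy hy)) y4
    have a1 : Commute ((y * y) ^ n) t := ((Commute.mul_left yt yt).pow_left n)
    have a2 := h.w_comm ht (h.r1 ht (h.sq_div xx hn (Commute.pow_right e.symm n))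
      (a1.mul_left (Commute.inv_left xt))) yt
    have a3 : Commute y ((y * y) ^ n) := ((Commute.refl y).mul_right (Commute.refl y)).pow_right n
    simpa using (a3.inv_right.mul_right a2).inv_right.eq
  have k1 : ∀ y ∈ (T : Subgroup G), y * t = t * y → y ∈ h.NZ x := fun y hy yt => by
    by_contra c
    have a1 := (inv_mem (x3 y hy)).resolve_left fun e => c (h.of_mul_inv (by
      simpa [commutatorElement_def, mul_assoc] using e))
    have a2 := h.comm a1 yt
    have a3 := h.comm a1 xt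
    have a4 := h.rf_ez a1 ht
    have a5 : y * x = ⁅x, y⁆⁻¹ * x * y := by simp [commutatorElement_def, mul_assoc]
    generalize ⁅x, y⁆⁻¹ = w at a1 a2 a3 a4 a5
    by_cases y4 : y * y * (y * y) = 1
    · refine h.r2 (k := x * y) (h.rf_ez ?_ a4)
      rw [mul_assoc, ← mul_assoc y, a5, ← mul_assoc, ← mul_assoc, ← mul_assoc, a3, mul_assoc w, xx, mul_assoc]
      simpa using h.mul (h.ez_z w) (h.sq4 y4)
    · refine c (h.nz_of_comm (kk y hy yt ?_ y4))
      rw [mul_assoc, a5, ← mul_assoc, ← mul_assoc, a2, mul_assoc w, a5, ← mul_assoc, ← mul_assoc, a4.sq, one_mul,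
        mul_assoc]
  let A := (T : Subgroup G) ⊓ C1[t] ⊓ C1[x]
  have mA : ∀ {a}, a ∈ A ↔ a ∈ (T : Subgroup G) ∧ a * t = t * a ∧ a * x = x * a := by
    simp [A, mem_centralizer_singleton_iff, and_assoc]
  have tA : t ∈ A := mA.2 ⟨tT, rfl, xt.symm⟩
  have ac : ∀ {y}, y ∈ (T : Subgroup G) → y * t = t * y → y ∉ A → y * x = x * y * z := fun h1 h2 h3 =>
    (h.nz_cases (k1 _ h1 h2)).resolve_left fun e => h3 (mA.2 ⟨h1, h2, e⟩)
  have ac2 : ∀ {y y'}, y * x = x * y * z → y' * x = x * y' * z → y * y' * x = x * (y * y') := fun e e' => by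
    rw [mul_assoc, e', ← mul_assoc, ← mul_assoc, e, h.zm, h.zz', mul_assoc]
  refine ⟨t, _, A, h, ht, hs, sT, st, nz, fun _ ha => ha.1.1, tA, mA.2 ⟨h.zT T, (h.zc t).symm, (h.zc x).symm⟩,
    ?_, fun {g} hg {a} ha => ?_, fun {y} h1 h2 h3 => ⟨?_, ⟨x, mA.2 ⟨xT, xt, rfl⟩, xx⟩, fun h4 h5 h6 =>
      mA.2 ⟨mul_mem h1 h4, Commute.mul_left h2 h5, ac2 (ac h1 h2 h3) (ac h4 h5 h6)⟩⟩⟩
  · have hc : zpowers (⟨t, tA⟩ : A) ≤ center A := zpowers_le.2 (mem_center_iff.2 fun a => Subtype.ext (mA.1 a.2).2.1)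
    have : (zpowers (⟨t, tA⟩ : A)).Normal := pg_normal_zpowers_of_mem_center (hc (mem_zpowers _))
    have zp : ∀ a : A, a ∈ zpowers (⟨t, tA⟩ : A) → (a : G) = 1 ∨ a = t := fun a ha =>
      (pg_mem_zpowers_order_two (Subtype.ext (by simpa [sq] using ht.sq)) ha).imp (congrArg Subtype.val)
        (congrArg Subtype.val)
    have zA : z ∈ A := mA.2 ⟨h.zT T, (h.zc t).symm, (h.zc x).symm⟩
    have : IsCyclic (A ⧸ zpowers (⟨t, tA⟩ : A)) := TP.isCyclic_of_central_four
      ((T.isPGroup'.to_le (show A ≤ T from fun _ ha => ha.1.1)).to_quotient _) (f := (⟨x, mA.2 ⟨xT, xt, rfl⟩⟩ : A)) (fun a b ha hb => by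
        have : ∀ a : A ⧸ zpowers (⟨t, tA⟩ : A), orderOf a = 2 → a = (⟨z, zA⟩ : A) := fun a ha => by
          obtain ⟨a, rfl⟩ := QuotientGroup.mk_surjective a
          have a1 := (zp _ ((QuotientGroup.eq_one_iff _).1 (BSW.mul_self_of_orderOf_two ha))).resolve_right
            fun e => h.r2 (k := a) (by rw [← e] at ht; exact ht)
          have a2 := mt (QuotientGroup.eq_one_iff _).2 (ne_one_of_orderOf_two ha)
          rcases h.r1 ht a1 (mA.1 a.2).2.1 with (e | e) | (e | e)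
          · exact (a2 ⟨0, Subtype.ext (by simpa using e.symm)⟩).elim
          · exact congrArg _ (Subtype.ext (by simpa using e))
          · exact (a2 ⟨1, Subtype.ext (by simpa using e.symm)⟩).elim
          · exact QuotientGroup.eq.2 ⟨1, Subtype.ext (by simp [e, h.zi, ht.inv, ← h.zc, h.zz'])⟩
        exact (this a ha).trans (this b hb).symm)
      (fun e => (zp _ ((QuotientGroup.eq_one_iff _).1 e)).elim (fun e => h.z1 (xx.symm.trans e))
        fun e => ht.nz (e.symm.trans xx))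
      (fun a => by
        obtain ⟨a, rfl⟩ := QuotientGroup.mk_surjective a
        exact congrArg QuotientGroup.mk (Subtype.ext (mA.1 a.2).2.2 : a * ⟨x, _⟩ = ⟨x, _⟩ * a))
    exact fun {a} ha {b} hb => congrArg Subtype.val ((MonoidHom.isMulCommutative_of_isCyclic_of_ker_le_center
      (QuotientGroup.mk' (zpowers (⟨t, tA⟩ : A))) (by rwa [QuotientGroup.ker_mk'])).is_comm.comm ⟨a, ha⟩ ⟨b, hb⟩)
  · obtain ⟨a1, a2, a3⟩ := mA.1 ha
    refine mA.2 ⟨mul_mem (mul_mem hg a1) (inv_mem hg), c0 hg a2, conj_comm ?_⟩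
    have := (Commute.inv_right (h.w_comm ht (x3 _ (inv_mem hg)) a2)).mul_right a3
    simpa [commutatorElement_def, mul_assoc] using this.eq
  · have a1 := ac h1 h2 h3
    refine (ez_one.1 (h.sq4 (by_contra fun y4 => ?_))).resolve_left fun e => ?_
    · exact h.ne_z _ (a1.symm.trans (kk y h1 h2 (ac2 a1 a1) y4))
    · exact h.ne_z _ (a1.symm.trans (h.w_comm ht (h.r1 ht e h2) xt).symm)

theorem comm_le {T N : Subgroup G} {S : Set G} (hT : T = closure S)
    (hN : ∀ g ∈ T, ∀ n ∈ N, g * n * g⁻¹ ∈ N) (h : ∀ x ∈ S, ∀ y ∈ S, ⁅x, y⁆ ∈ N) : ⁅T, T⁆ ≤ N := by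
  subst hT
  have k : ∀ y, (∀ x ∈ S, ⁅x, y⁆ ∈ N) → ∀ x ∈ closure S, ⁅x, y⁆ ∈ N := fun y hy x hx => by
    induction hx using closure_induction with
    | mem x hx => exact hy x hx
    | one => simp
    | mul a b ha _ h1 h2 =>
      have := mul_mem (hN a ha _ h2) h1
      simpa [commutatorElement_def, mul_assoc] using this
    | inv a ha h1 =>
      have := hN _ (inv_mem ha) _ (inv_mem h1)
      simpa [commutatorElement_def, mul_assoc] using this
  exact commutator_le.2 fun x hx y hy => k y (fun x hx => by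
    simpa using inv_mem (k x (fun y hy => h y hy x hx) y hy)) x hx

namespace Cf
variable {z : G} {T : Sylow 2 G} {t s : G} {A : Subgroup G} (h : Cf z T t s A)
include h

theorem tT : t ∈ (T : Subgroup G) := h.AT h.tA
theorem at' {a : G} (ha : a ∈ A) : a * t = t * a := h.cm ha h.tA
theorem ts : t * s = s * t * z := by rw [h.st, h.zz']
theorem sts : s * t * s = t * z := by rw [h.st, h.zm, mul_assoc t, h.hs.sq, mul_one]
theorem not_A {g : G} (e : g * t = t * g * z) : g ∉ A := fun c => h.ne_z _ (e.symm.trans (h.at' c))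
theorem sA {a : G} (ha : a ∈ A) : s * a * s ∈ A := by simpa [h.hs.inv] using h.nA h.sT ha

theorem chg {s' : G} (h1 : Rf z s') (h2 : s' ∈ (T : Subgroup G)) (h3 : s' * t = t * s' * z) : Cf z T t s' A :=
  { h with hs := h1, sT := h2, st := h3 }

theorem s_ac {g : G} (e : g * t = t * g * z) : s * g * t = t * (s * g) := by
  rw [mul_assoc, e, ← mul_assoc, ← mul_assoc, h.st, h.zm, h.zz', mul_assoc]
theorem s_cm {g : G} (e : g * t = t * g) : s * g * t = t * (s * g) * z := by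
  rw [mul_assoc, e, ← mul_assoc, h.st, h.zm, mul_assoc t]

theorem inv_A {y a : G} (h1 : y ∈ (T : Subgroup G)) (h2 : y * t = t * y) (h3 : y ∉ A) (ha : a ∈ A) :
    y * a * y⁻¹ = a⁻¹ := by
  have a1 := (h.out (mul_mem (h.AT ha) h1) (Commute.mul_left (h.at' ha) h2)
    fun e => h3 ((A.mul_mem_cancel_left ha).1 e)).1
  rw [← (h.out h1 h2 h3).1] at a1
  calc y * a * y⁻¹ = a⁻¹ * (a * y * (a * y)) * y⁻¹ * y⁻¹ := by group
    _ = _ := by rw [a1]; group

theorem conj_cases {g : G} (hg : g ∈ (T : Subgroup G)) {a : G} (ha : a ∈ A) :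
    g * a * g⁻¹ = a ∨ g * a * g⁻¹ = a⁻¹ ∨ g * a * g⁻¹ = s * a * s ∨ g * a * g⁻¹ = (s * a * s)⁻¹ := by
  have k : ∀ g ∈ (T : Subgroup G), g * t = t * g → g * a * g⁻¹ = a ∨ g * a * g⁻¹ = a⁻¹ := fun g hg e => by
    by_cases c : g ∈ A
    · exact .inl (by rw [h.cm c ha, mul_inv_cancel_right])
    · exact .inr (h.inv_A hg e c ha)
  rcases h.nz_cases (h.nz hg) with e | e
  · exact (k g hg e).imp_right .inl
  · have e1 : g * a * g⁻¹ = s * (s * g * a * (s * g)⁻¹) * s := by simp [mul_assoc, h.hs.sq', h.hs.inv, h.hs.sq]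
    refine .inr (.inr ((k _ (mul_mem h.sT hg) (h.s_ac e)).imp (fun e => by rw [e1, e]) fun e => ?_))
    rw [e1, e]; simp [h.hs.inv, mul_assoc]

/-- the elements of `A` inverted by `s` -/
def J : Subgroup G where
  carrier := {u | u ∈ A ∧ s * u * s = u⁻¹}
  mul_mem' := fun {a b} ha hb => ⟨mul_mem ha.1 hb.1, by
    rw [h.cm ha.1 hb.1, mul_inv_rev, ← ha.2, ← hb.2, h.cm hb.1 ha.1]; simp [mul_assoc, h.hs.sq']⟩
  one_mem' := ⟨one_mem _, by simp [h.hs.sq]⟩
  inv_mem' := fun {a} ha => ⟨inv_mem ha.1, by simpa [mul_assoc, h.hs.inv] using congrArg (·⁻¹) ha.2⟩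

theorem zJ : z ∈ h.J := ⟨h.zA, by rw [h.zm, h.hs.sq, h.zi, one_mul]⟩
theorem tJ {u : G} (e : Ez z u t) : u ∉ h.J := fun c => by
  have := c.2
  rw [(h.rf_ez e h.ht).inv, ← h.hs.inv, mul_inv_eq_iff_eq_mul, h.hs.inv] at this
  exact h.ne_z _ (h.st.symm.trans (h.comm (h.symm e) this))
theorem nJ {g : G} (hg : g ∈ (T : Subgroup G)) {a : G} (ha : a ∈ h.J) : g * a * g⁻¹ ∈ h.J := by
  rcases h.conj_cases hg ha.1 with e | e | e | e <;> rw [e] <;> simp [ha.2, ha]
theorem brJ {a : G} (ha : a ∈ A) : s * a * s * a⁻¹ ∈ h.J :=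
  ⟨mul_mem (h.sA ha) (inv_mem ha), by simp [mul_assoc, h.hs.sq', h.hs.inv]⟩

theorem tr {N : Subgroup G} (h1 : N ≤ A) (h2 : h.J ≤ N) (h3 : ∀ g ∈ (T : Subgroup G), ∀ n ∈ N, g * n * g⁻¹ ∈ N)
    (h4 : ⁅(T : Subgroup G), (T : Subgroup G)⁆ ≤ N)
    (h5 : ∀ u ∈ (T : Subgroup G), u * t = t * u → s * u * (s * u) = 1 → u ∈ A) : t ∈ N := by
  have zN := h2 h.zJ
  have wT : s * t ∈ (T : Subgroup G) := mul_mem h.sT h.tT
  have ww : s * t * (s * t) = z := by rw [← mul_assoc, h.sts, h.zm, h.ht.sq, one_mul]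
  have e1 : (s * t)⁻¹ * t = s * z := by rw [mul_inv_rev, h.ht.inv, h.hs.inv, h.ts, h.zm, mul_assoc s, h.ht.sq, mul_one]
  have e2 : t⁻¹ = (s * t)⁻¹ * s := by simp [h.hs.inv, h.hs.sq, mul_assoc]
  generalize s * t = w at wT ww e1 e2
  let N1 : Subgroup G :=
    { carrier := {g | g ∈ N ∨ w⁻¹ * g ∈ N}
      mul_mem' := by
        rintro a b (ha | ha) (hb | hb)
        · exact .inl (mul_mem ha hb)
        · exact .inr (by simpa [mul_assoc] using mul_mem (h3 _ (inv_mem wT) _ ha) hb)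
        · exact .inr (by simpa [mul_assoc] using mul_mem ha hb)
        · exact .inl (by simpa [mul_assoc, ← ww] using mul_mem (mul_mem (h3 _ wT _ ha) zN) hb)
      one_mem' := .inl (one_mem _)
      inv_mem' := by
        rintro a (ha | ha)
        · exact .inl (inv_mem ha)
        · exact .inr (by simpa [mul_assoc, ← ww] using mul_mem (h3 _ (inv_mem wT) _ (inv_mem ha)) (inv_mem zN)) }
  refine (Len8.mem_of_extremal h.perf (N := N1) (sylow_two_index_odd T) (h4.trans fun _ => .inl)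
    (pzp 1 (by rw [pow_one, sq, h.ht.sq])) h.ht.sq (mem_zpowers t)
    (zpowers_le.2 (mem_centralizer_singleton_iff.2 rfl)) h.tT fun g hg => ?_).resolve_right fun c => ?_
  · have a1 : g * t * g⁻¹ ∈ (T : Subgroup G) := hg ⟨t, mem_zpowers t, rfl⟩
    have a2 := h.rf_conj h.ht g
    generalize g * t * g⁻¹ = r at a1 a2
    rcases h.nz_cases (h.nz a1) with e | e
    · rcases h.rr h.ht a2 e with rfl | rfl
      · exact .inl (by simp)
      · exact .inl (by simpa using zN)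
    · have a3 := h5 _ (mul_mem h.sT a1) (h.s_ac e) (by rw [h.hs.sq', a2.sq])
      have a4 : s * r ∈ N := h2 ⟨a3, by simp [h.hs.sq', h.hs.inv, a2.inv]⟩
      exact .inr (by simpa [e2, mul_assoc, ← ww] using mul_mem (inv_mem zN) a4)
  · rw [e1] at c
    exact h.not_A h.st ((A.mul_mem_cancel_right h.zA).1 (h1 c))

theorem caseC (hc : ∀ y ∈ (T : Subgroup G), y * t = t * y → y ∈ A) : False := by
  refine h.tJ (.refl _ _) (h.tr (fun _ e => e.1) le_rfl (fun _ hg _ => h.nJ hg)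
    (comm_le (S := insert s A) (le_antisymm (fun g hg => ?_) ((closure_le _).2 ?_)) (fun _ hg _ => h.nJ hg) ?_)
    fun u h1 h2 _ => hc u h1 h2)
  · rcases h.nz_cases (h.nz hg) with e | e
    · exact subset_closure (.inr (hc g hg e))
    · rw [← h.hs.sq' g]
      exact mul_mem (subset_closure (.inl rfl)) (subset_closure (.inr (hc _ (mul_mem h.sT hg) (h.s_ac e))))
  · rintro _ (rfl | e)
    exacts [h.sT, h.AT e]
  · have k : ∀ a ∈ A, ⁅s, a⁆ ∈ h.J := fun a ha => by simpa [commutatorElement_def, h.hs.inv] using h.brJ ha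
    rintro x (rfl | hx) y (rfl | hy)
    · simp
    · exact k y hy
    · simpa using inv_mem (k x hx)
    · rw [commutatorElement_eq_one_iff_mul_comm.2 (h.cm hx hy)]; exact one_mem _

theorem caseJ {b : G} (h1 : b ∈ (T : Subgroup G)) (h2 : b * t = t * b) (h3 : b ∉ A)
    (h5 : ∀ u ∈ (T : Subgroup G), u * t = t * u → s * u * (s * u) = 1 → u ∈ A) :
    ∃ j ∈ h.J, ∃ u ∈ A, t = j * (u * u) := by
  let N : Subgroup G :=
    { carrier := {g | ∃ j ∈ h.J, ∃ u ∈ A, g = j * (u * u)}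
      mul_mem' := by
        rintro _ _ ⟨j, hj, u, hu, rfl⟩ ⟨k, hk, v, hv, rfl⟩
        refine ⟨_, mul_mem hj hk, _, mul_mem hu hv, ?_⟩
        rw [mul_assoc, ← mul_assoc (u * u), h.cm (mul_mem hu hu) hk.1, mul_assoc u v, ← mul_assoc v, h.cm hv hu]
        simp only [mul_assoc]
      one_mem' := ⟨1, one_mem _, 1, one_mem _, by simp⟩
      inv_mem' := by
        rintro _ ⟨j, hj, u, hu, rfl⟩
        exact ⟨_, inv_mem hj, _, inv_mem hu, by rw [h.cm hj.1 (mul_mem hu hu)]; group⟩ }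
  have n1 : ∀ g ∈ (T : Subgroup G), ∀ n ∈ N, g * n * g⁻¹ ∈ N := by
    rintro g hg _ ⟨j, hj, u, hu, rfl⟩
    exact ⟨_, h.nJ hg hj, _, h.nA hg hu, by group⟩
  have n2 : h.J ≤ N := fun j hj => ⟨j, hj, 1, one_mem _, by simp⟩
  refine h.tr (N := N) ?_ n2 n1
    (comm_le (S := insert s (insert b A)) (le_antisymm (fun g hg => ?_) ((closure_le _).2 ?_)) n1 ?_) h5
  · rintro _ ⟨j, hj, u, hu, rfl⟩
    exact mul_mem hj.1 (mul_mem hu hu)
  · have k : ∀ g ∈ (T : Subgroup G), g * t = t * g → g ∈ closure (insert s (insert b (A : Set G))) := fun g hg e => by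
      by_cases c : g ∈ A
      · exact subset_closure (.inr (.inr c))
      · rw [← inv_mul_cancel_left b g]
        exact mul_mem (inv_mem (subset_closure (.inr (.inl rfl))))
          (subset_closure (.inr (.inr ((h.out h1 h2 h3).2.2 hg e c))))
    rcases h.nz_cases (h.nz hg) with e | e
    · exact k g hg e
    · rw [← h.hs.sq' g]
      exact mul_mem (subset_closure (.inl rfl)) (k _ (mul_mem h.sT hg) (h.s_ac e))
  · rintro _ (rfl | rfl | e)
    exacts [h.sT, h1, h.AT e]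
  · have k : ∀ a ∈ A, ⁅s, a⁆ ∈ N := fun a ha => n2 (by simpa [commutatorElement_def, h.hs.inv] using h.brJ ha)
    have k2 : ∀ a ∈ A, ⁅b, a⁆ ∈ N := fun a ha => ⟨1, one_mem _, a⁻¹, inv_mem ha, by
      rw [commutatorElement_def, h.inv_A h1 h2 h3 ha, one_mul]⟩
    have k3 : ⁅s, b⁆ ∈ N := n2 ⟨(h.out (mul_mem (mul_mem h.sT h1) (inv_mem h.sT))
      (conj_comm (h.comm (by simpa using (h.mem_nz).1 (h.nz (inv_mem h.sT))) h2))
      (fun c => h3 (by simpa [mul_assoc] using h.nA (inv_mem h.sT) c))).2.2 (inv_mem h1) (Commute.inv_left h2)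
      (by simpa using h3), by simp [commutatorElement_def, mul_assoc, h.hs.inv, h.hs.sq']⟩
    rintro x (rfl | rfl | hx) y (rfl | rfl | hy)
    · simp
    · exact k3
    · exact k y hy
    · simpa using inv_mem k3
    · simp
    · exact k2 y hy
    · simpa using inv_mem (k x hx)
    · simpa using inv_mem (k2 x hx)
    · rw [commutatorElement_eq_one_iff_mul_comm.2 (h.cm hx hy)]; exact one_mem _

end Cf

end Cfsg.Lib.Div
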