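import Cfsg.Agent.Lib.Div.FusB

/-!
# Quasisimple groups with reflections: all reflections outside `C(t)` in one coset of `A`
-/

set_option autoImplicit false
set_option linter.unusedSectionVars false

namespace Cfsg.Lib.Div
open Subgroup Cfsg.Lib Cfsg.Lib.FT
open scoped commutatorElement

variable {G : Type*} [Group G] [Finite G]

theorem gen_odd {K : Type*} [Group K] [Finite K] (hK : IsPGroup 2 K) (g : K) {n : ℤ} (hn : Odd n) :
    g ∈ zpowers (g ^ n) := by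
  obtain ⟨k, hk⟩ := (IsPGroup.iff_orderOf.1 hK) g
  rw [mem_zpowers_zpow_iff, hk, Int.gcd_eq_natAbs, Int.natAbs_natCast]
  exact Nat.Coprime.pow_right _ (Nat.coprime_two_right.2 (Int.natAbs_odd.2 hn))

namespace Cf
variable {z : G} {T : Sylow 2 G} {t s : G} {A : Subgroup G} (h : Cf z T t s A)
include h

theorem inW {a : G} (ha : a ∈ A) (e : a * a = 1) : a ∈ h.W h.ht := h.r1 h.ht e (h.at' ha)
theorem WA {a : G} (ha : a ∈ h.W h.ht) : a ∈ A := by
  rcases ha with (rfl | rfl) | (rfl | rfl)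
  exacts [one_mem _, mul_mem (one_mem _) h.zA, h.tA, mul_mem h.tA h.zA]
theorem mul_sq {a b : G} (ha : a ∈ A) (hb : b ∈ A) : a * b * (a * b) = a * a * (b * b) := by
  rw [mul_assoc, ← mul_assoc b, h.cm hb ha]; simp only [mul_assoc]

theorem cyc {K : Subgroup G} (hK : K ≤ A) (ht : ∀ u, Ez z u t → u ∉ K) : ∃ g ∈ K, ∀ x ∈ K, ∃ n : ℤ, g ^ n = x := by
  have k : ∀ a : K, orderOf a = 2 → (a : G) = z := fun a ha => (ez_one.1 ((h.inW (hK a.2)
    (congrArg Subtype.val (BSW.mul_self_of_orderOf_two ha))).resolve_right fun e => ht _ e a.2)).resolve_left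
      fun e => ne_one_of_orderOf_two ha (Subtype.ext e)
  rcases pg_two_group_unique_involution (T.isPGroup'.to_le (hK.trans h.AT))
    (fun a b ha hb => Subtype.ext ((k a ha).trans (k b hb).symm)) with c | ⟨m, a, b, hm, -, ha, -, -, -, e⟩
  · obtain ⟨g, hg⟩ := c.exists_generator
    exact ⟨g, g.2, fun x hx => (hg ⟨x, hx⟩).imp fun n e => congrArg Subtype.val e⟩
  · rw [show b * a = a * b from Subtype.ext (h.cm (hK b.2) (hK a.2)), mul_inv_cancel_right] at e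
    have h2 := orderOf_dvd_of_pow_eq_one (x := a) (n := 2) (by rw [sq]; nth_rw 2 [e]; exact mul_inv_cancel _)
    rw [ha] at h2
    have := (Nat.pow_dvd_pow_iff_le_right (k := m + 1) (l := 1) Nat.one_lt_two).1 h2
    omega

theorem sq_or {K : Subgroup G} (hK : K ≤ A) (ht : ∀ u, Ez z u t → u ∉ K) {x : G} (hx : x ∈ K) :
    (∃ w ∈ K, x = w * w) ∨ ∀ y ∈ K, y ∈ zpowers x := by
  obtain ⟨g, hg, e⟩ := h.cyc hK ht
  obtain ⟨n, rfl⟩ := e x hx
  rcases Int.even_or_odd n with ⟨k, rfl⟩ | c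
  · exact .inl ⟨_, zpow_mem hg k, zpow_add _ _ _⟩
  · refine .inr fun y hy => ?_
    obtain ⟨k, rfl⟩ := e y hy
    obtain ⟨l, hl⟩ := gen_odd (T.isPGroup'.to_le (hK.trans h.AT)) ⟨g, hg⟩ c
    exact zpow_mem (show g ∈ zpowers (g ^ n) from ⟨l, congrArg Subtype.val hl⟩) k

theorem JA : h.J ≤ A := fun _ e => e.1

theorem tC {u : G} (e : Ez z u t) : u ∉ A ⊓ C1[s] := fun c =>
  h.ne_z _ (h.st.symm.trans (h.comm (h.symm e) (mem_centralizer_singleton_iff.1 c.2).symm))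

theorem mC {u : G} : u ∈ A ⊓ C1[s] ↔ u ∈ A ∧ s * u = u * s := by
  rw [mem_inf, mem_centralizer_singleton_iff, eq_comm]

theorem fix {u : G} : s * u * s = u ↔ s * u = u * s := by rw [← eq_mul_inv_iff_mul_eq, h.hs.inv]

theorem s_out {b : G} (h1 : b ∈ (T : Subgroup G)) (h2 : b * t = t * b) (h3 : b ∉ A) :
    s * b * s ∈ (T : Subgroup G) ∧ s * b * s * t = t * (s * b * s) ∧ s * b * s ∉ A :=
  ⟨mul_mem (mul_mem h.sT h1) h.sT, by
    rw [mul_assoc, h.st, ← mul_assoc, ← mul_assoc, h.s_cm h2, h.zm, h.zz', mul_assoc],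
    fun c => h3 (by simpa [mul_assoc, h.hs.sq', h.hs.sq] using h.sA c)⟩

theorem mJ {b : G} (h1 : b ∈ (T : Subgroup G)) (h2 : b * t = t * b) (h3 : b ∉ A) : s * b * s * b⁻¹ ∈ h.J :=
  ⟨(h.out (h.s_out h1 h2 h3).1 (h.s_out h1 h2 h3).2.1 (h.s_out h1 h2 h3).2.2).2.2 (inv_mem h1)
    (Commute.inv_left h2) (by simpa using h3), by simp [mul_assoc, h.hs.inv, h.hs.sq']⟩

theorem CJ {u : G} (h1 : u ∈ A ⊓ C1[s]) (h2 : u ∈ h.J) : Ez z u 1 := by
  have e := (h.fix.2 (h.mC.1 h1).2).symm.trans h2.2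
  exact (h.inW h1.1 (by nth_rw 2 [e]; exact mul_inv_cancel _)).resolve_right fun c => h.tJ c h2

theorem nz4 {x : G} (hx : x ∈ A ⊓ C1[s]) (xx : x * x = z) : (T : Subgroup G) ≤ h.NZ x := fun g hg => by
  have e := h.fix.2 (h.mC.1 hx).2
  rcases h.conj_cases hg hx.1 with c | c | c | c
  exacts [.inl c, .inr (c.trans (h.inv4 xx)), .inl (c.trans e), .inr (c.trans (e.symm ▸ h.inv4 xx))]

theorem ac4 {x y : G} (hx : x ∈ A) (xx : x * x = z) (h1 : y ∈ (T : Subgroup G)) (h2 : y * t = t * y) (h3 : y ∉ A) :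
    y * x = x * y * z := by
  rw [mul_inv_eq_iff_eq_mul.1 (h.inv_A h1 h2 h3 hx), h.inv4 xx, h.zm]

/-- the elements of `A` of order dividing four -/
def X : Subgroup G where
  carrier := {u | u ∈ A ∧ u * u * (u * u) = 1}
  mul_mem' := fun {a b} ha hb => ⟨mul_mem ha.1 hb.1, by
    rw [h.mul_sq ha.1 hb.1, h.mul_sq (mul_mem ha.1 ha.1) (mul_mem hb.1 hb.1), ha.2, hb.2, mul_one]⟩
  one_mem' := ⟨one_mem _, by simp⟩
  inv_mem' := fun {a} ha => ⟨inv_mem ha.1, by simpa [mul_assoc] using congrArg (·⁻¹) ha.2⟩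

theorem WX {a : G} (ha : a ∈ h.W h.ht) : a ∈ h.X := ⟨h.WA ha, by rw [h.w_sq h.ht ha, mul_one]⟩

section
variable (h5 : ∀ u ∈ (T : Subgroup G), u * t = t * u → s * u * (s * u) = 1 → u ∈ A)
include h5

theorem sa {r : G} (h1 : r ∈ (T : Subgroup G)) (h2 : r * t = t * r * z) (e : Ez z (r * r) 1) : s * r ∈ A := by
  rcases ez_one.1 e with e | e
  · exact h5 _ (mul_mem h.sT h1) (h.s_ac h2) (by rw [h.hs.sq', e])
  · refine (A.mul_mem_cancel_right h.tA).1 (h5 _ (mul_mem (mul_mem h.sT h1) h.tT)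
      (Commute.mul_left (h.s_ac h2) rfl) ?_)
    rw [mul_assoc s r, h.hs.sq', h2, h.sq_eq (h.ez_z _), mul_assoc, ← mul_assoc r, h2, ← mul_assoc, ← mul_assoc,
      ← mul_assoc, h.ht.sq, one_mul, h.zm, e, h.zz]

theorem pr {r y : G} (hr : Rf z r) (h1 : r ∈ (T : Subgroup G)) (h2 : r * t = t * r * z)
    (y1 : y ∈ (T : Subgroup G)) (y2 : y * t = t * y) (y3 : y ∉ A) : r * y ≠ y * r := fun c => by
  have a1 := h.sa h5 h1 h2 (.inl hr.sq)
  have a2 := h.sa h5 (mul_mem h1 y1) ((h.chg hr h1 h2).s_cm y2) (ez_one.2 (.inr (by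
    rw [mul_assoc, ← mul_assoc y, ← c, ← mul_assoc, ← mul_assoc, hr.sq, one_mul, (h.out y1 y2 y3).1])))
  exact y3 ((A.mul_mem_cancel_left a1).1 (by rwa [mul_assoc]))

variable {b : G} (h1 : b ∈ (T : Subgroup G)) (h2 : b * t = t * b) (h3 : b ∉ A)
include h1 h2 h3

theorem cj {u : G} (hu : u ∈ A) : ∃ j ∈ h.J, u * j ∈ A ⊓ C1[s] := by
  rcases h.sq_or h.JA (fun _ => h.tJ) (h.brJ hu) with ⟨j, hj, e⟩ | c
  · refine ⟨j, hj, h.mC.2 ⟨mul_mem hu hj.1, h.fix.1 ?_⟩⟩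
    calc s * (u * j) * s = s * u * s * u⁻¹ * u * (s * j * s) := by simp [mul_assoc, h.hs.sq']
      _ = _ := by rw [e, hj.2, h.cm (mul_mem hj.1 hj.1) hu]; group
  · obtain ⟨k, hk⟩ := c _ (h.mJ h1 h2 h3)
    have a1 : s * u ^ k * s * (u ^ k)⁻¹ = s * b * s * b⁻¹ := by
      rw [← hk]
      simp only
      rw [(Commute.inv_right (h.cm (h.sA hu) hu)).mul_zpow, inv_zpow]
      nth_rw 2 4 [← h.hs.inv]
      rw [conj_zpow]
    have a2 := zpow_mem hu k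
    generalize u ^ k = w at a1 a2
    refine (h.pr h5 h.hs h.sT h.st (mul_mem h1 (h.AT a2)) (Commute.mul_left h2 (h.at' a2))
      (fun e => h3 ((A.mul_mem_cancel_right a2).1 e)) (h.fix.1 ?_)).elim
    have a3 := h.inv_A h1 h2 h3 (h.brJ a2).1
    calc s * (b * w) * s = s * b * s * b⁻¹ * (b * (s * w * s * w⁻¹) * b⁻¹) * (b * w) := by simp [mul_assoc, h.hs.sq']
      _ = _ := by rw [a3, a1]; group

theorem ib_data : ∃ c ∈ A ⊓ C1[s], c * c * (c * c) = z ∧ ∀ u ∈ A, u * u ∈ A ⊓ C1[s] := by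
  obtain ⟨j, hj, u, hu, e⟩ := h.caseJ h1 h2 h3 h5
  obtain ⟨k, hk, hc⟩ := h.cj h5 h1 h2 h3 hu
  have e1 : t = j * (k * k)⁻¹ * (u * k * (u * k)) := by
    rw [h.mul_sq hu hk.1, h.cm (mul_mem hu hu) (mul_mem hk.1 hk.1), e]; group
  have hj' := mul_mem hj (inv_mem (mul_mem hk hk))
  generalize j * (k * k)⁻¹ = j' at e1 hj'
  generalize u * k = c at e1 hc
  have cc := mul_mem hc hc
  have e2 : j' * j' * (c * c * (c * c)) = 1 := by rw [← h.mul_sq hj'.1 cc.1, ← e1, h.ht.sq]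
  have e3 := h.CJ (mul_mem cc cc) (by rw [eq_inv_of_mul_eq_one_right e2]; exact inv_mem (mul_mem hj' hj'))
  have e4 := (ez_one.1 e3).resolve_left fun e => h.tJ (h.symm (by
    simpa [← e1] using h.mul (.refl _ j') (h.sq4 e))) hj'
  have e5 := (h.sq_or h.JA (fun _ => h.tJ) hj').resolve_left fun ⟨w, hw, e⟩ =>
    h.r2 (k := w * c) (by rw [h.mul_sq hw.1 hc.1, ← e, ← e1]; exact h.ht)
  refine ⟨c, hc, e4, fun u hu => ?_⟩
  obtain ⟨k, hk, hc'⟩ := h.cj h5 h1 h2 h3 hu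
  have := mul_mem hc' hc'
  rw [h.mul_sq hu hk.1] at this
  refine ((A ⊓ C1[s]).mul_mem_cancel_right ?_).1 this
  obtain ⟨n, rfl⟩ := e5 k hk
  rw [e4, mul_eq_one_iff_eq_inv, h.zi] at e2
  simp only
  rw [← (Commute.refl j').mul_zpow, e2]
  exact zpow_mem (h.mC.2 ⟨h.zA, h.zc s⟩) n

theorem caseIb : False := by
  obtain ⟨c, hc, c4, hsq⟩ := h.ib_data h5 h1 h2 h3
  have hι := mul_mem hc hc
  have hw : s * c * (s * c) = c * c := by rw [← mul_assoc, h.fix.2 (h.mC.1 hc).2]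
  have cι : c * (c * c) = c * c * c := (mul_assoc _ _ _).symm
  obtain ⟨ι, eι⟩ : ∃ ι, ι = c * c := ⟨_, rfl⟩
  rw [← eι] at c4 hι hw cι
  have sι := (h.mC.1 hι).2
  obtain ⟨g0, vT, hv⟩ := h.zs T (h.AT hι.1) (fun e => h.ne_z _
    ((h.ac4 hι.1 c4 h1 h2 h3).symm.trans (mem_center_iff.1 e b))) (c4 ▸ h.z_mem)
  have vv : g0 * ι * g0⁻¹ * (g0 * ι * g0⁻¹) = z := by rw [conj_mul, c4, h.cz]
  obtain ⟨g, e, hg⟩ := h.ext1 T (h.nz4 hι c4) (v := g0 * ι * g0⁻¹) (g := g0⁻¹) (.inl (by group))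
  generalize g0 * ι * g0⁻¹ = v at vT hv vv e hg
  have ι2 : g * ι * g⁻¹ * (g * ι * g⁻¹) = z := by rw [conj_mul, c4, h.cz]
  by_cases cv : c * v = v * c
  · have a1 := hg c (h.AT hc.1) (h.nz_of_comm cv)
    have a2 : g * c * g⁻¹ * ι = ι * (g * c * g⁻¹) := h.comm (h.symm e) (by rw [conj_mul, cv, ← conj_mul])
    have a3 : g * ι * g⁻¹ ∈ A ⊓ C1[s] := by
      rw [eι, ← conj_mul]
      generalize g * c * g⁻¹ = x at a1 a2
      have k : ∀ x ∈ (T : Subgroup G), x * t = t * x → x * ι = ι * x → x ∈ A := fun x a1 a2 a3 =>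
        by_contra fun c => h.ne_z _ ((h.ac4 hι.1 c4 a1 a2 c).symm.trans a3)
      rcases h.nz_cases (h.nz a1) with e | e
      · exact hsq _ (k x a1 e a2)
      · have a4 := k _ (mul_mem h.sT a1) (h.s_ac e) (Commute.mul_left sι a2)
        have a5 : x * x = s * (s * x) * s * (s * x) := by simp [mul_assoc, h.hs.sq']
        exact h.mC.2 ⟨a5 ▸ mul_mem (h.sA a4) a4, h.fix.1 (by
          rw [a5]; nth_rw 2 [h.cm (h.sA a4) a4]; simp [mul_assoc, h.hs.sq'])⟩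
    have a4 := h.of_mul_inv ((h.inW (mul_mem a3 (inv_mem hι)).1 (h.sq_div c4 ι2 (h.cm hι.1 a3.1))).resolve_right
      fun e => h.tC e (mul_mem a3 (inv_mem hι)))
    exact hv (by simpa [mul_assoc] using h.conj (h.trans e (h.symm a4)) g⁻¹)
  have k : ∀ v ∈ (T : Subgroup G), v * v = z → ∀ c ∈ A ⊓ C1[s], c * v ≠ v * c → v * t = t * v ∧ v ∉ A :=
    fun v vT vv c hc cv => ⟨(h.nz_cases (h.nz vT)).resolve_right fun e => cv (by
      have := (Commute.symm (h.mC.1 hc).2).mul_right (h.cm hc.1 (h.sa h5 vT e (ez_one.2 (.inr vv))))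
      simpa [h.hs.sq'] using this.eq), fun e => cv (h.cm hc.1 e)⟩
  obtain ⟨v1, v2⟩ := k v vT vv c hc cv
  have b1 := h.ac4 hι.1 c4 vT v1 v2
  have b2 : ι * v = v * ι * z := by rw [b1, h.zz']
  have b3 := hg ι (h.AT hι.1) (h.nz_of_ac b2)
  have b4 := hg t h.tT (h.nz_of_comm v1.symm)
  obtain ⟨b5, b6⟩ := k _ b3 ι2 ι hι fun c => h.ne_z _ (b2.symm.trans (by
    have := h.comm e c.symm
    rw [conj_mul, conj_mul] at this
    simpa using this))
  have b7 : Ez z (g * t * g⁻¹) t := h.rr h.ht (h.rf_conj h.ht g) ((h.nz_cases (h.nz b4)).resolve_right fun c =>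
    h.pr h5 (h.rf_conj h.ht g) b4 c b3 b5 b6 (by rw [conj_mul, ← h.at' hι.1, ← conj_mul]))
  have gW : ∀ u ∈ h.W h.ht, g * u * g⁻¹ ∈ h.W h.ht := fun u hu =>
    hu.imp (fun e => by simpa using h.conj e g) fun e => h.trans (h.conj e g) b7
  have m1 := h.mJ vT v1 v2
  have m2 : ι * (s * v * s * v⁻¹) ∈ h.W h.ht := by
    refine h.inW (mul_mem hι.1 m1.1) ?_
    rw [h.mul_sq hι.1 m1.1, c4, (ez_one.1 (h.CJ (hsq _ m1.1) (mul_mem m1 m1))).resolve_left fun e => ?_, h.zz]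
    rcases h.of_mul_inv ((h.inW m1.1 e).resolve_right fun c => h.tJ c m1) with e | e
    · exact h.pr h5 h.hs h.sT h.st vT v1 v2 (h.fix.1 e)
    · refine h.pr h5 h.hs h.sT h.st (mul_mem vT h.tT) (Commute.mul_left v1 rfl)
        (fun c => v2 ((A.mul_mem_cancel_right h.tA).1 c)) (h.fix.1 ?_)
      calc s * (v * t) * s = s * v * s * (s * t * s) := by simp [mul_assoc, h.hs.sq']
        _ = _ := by rw [e, h.sts, ← mul_assoc, h.zm v, h.zz']
  have m3 : s * c * v * (s * c)⁻¹ = ι * (s * v * s * v⁻¹) * v := by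
    have := h.inv_A vT v1 v2 (inv_mem hc.1)
    calc s * c * v * (s * c)⁻¹ = s * (c * (v * c⁻¹ * v⁻¹)) * v * s := by simp [mul_assoc, h.hs.inv]
      _ = _ := by rw [this, inv_inv, ← eι, sι]; simp [mul_assoc]
  have wT : s * c ∈ (T : Subgroup G) := mul_mem h.sT (h.AT hc.1)
  generalize s * c = w at hw m3 wT
  have ιX : ι ∈ h.X := ⟨hι.1, by rw [c4, h.zz]⟩
  have ezX : ∀ {x y}, Ez z x y → y ∈ h.X → x ∈ h.X := by
    rintro x y (rfl | rfl) e
    exacts [e, mul_mem e (h.WX (.inl (ez_one.2 (.inr rfl))))]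
  have m4 : ∀ u ∈ h.W h.ht, g * w * g⁻¹ * u * (g * w * g⁻¹)⁻¹ ∈ h.X := fun u hu => h.WX
    (hu.imp (fun e => by simpa using h.conj e (g * w * g⁻¹)) fun e => h.trans (h.conj (h.trans e (h.symm b7)) _)
      (h.trans (by simpa [mul_assoc] using h.conj (h.nz wT) g) b7))
  have m5 : g * w * g⁻¹ * ι * (g * w * g⁻¹)⁻¹ ∈ h.X := by
    refine ezX (h.conj (h.symm e) _) ?_
    have := mul_mem (h.WX (gW _ m2)) (ezX e ιX)
    rw [conj_mul, ← m3] at this
    simpa [mul_assoc] using this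
  have inX : ∀ u ∈ A, u * u = z → u * ι⁻¹ ∈ h.W h.ht := fun u hu e =>
    h.inW (mul_mem hu (inv_mem hι.1)) (h.sq_div c4 e (h.cm hι.1 hu))
  obtain ⟨n, hn, m6⟩ := syl_conj T (M := N[h.X]) (P := zpowers (g * w * g⁻¹))
    (fun g hg => mem_normalizer_fintype fun u hu => ⟨h.nA hg hu.1, by
      rw [conj_mul, conj_mul, hu.2]; simp⟩)
    (pzp 3 (by rw [conj_pow, show w ^ 2 ^ 3 = w * w * (w * w) * (w * w * (w * w)) by simp [pow_succ, mul_assoc], hw, c4, h.zz]; simp))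
    (zpowers_le.2 (mem_normalizer_fintype fun u hu => by
      rcases ez_one.1 (h.sq4 hu.2) with e | e
      · exact m4 u (h.inW hu.1 e)
      · simpa [mul_assoc] using mul_mem (m4 _ (inX u hu.1 e)) m5))
  replace m6 := m6 _ (mem_zpowers _)
  have m7 : n * (g * ι * g⁻¹) * n⁻¹ ∈ A := by
    rw [← hw, ← conj_mul (b := g), ← conj_mul (b := n)]
    generalize n * (g * w * g⁻¹) * n⁻¹ = x at m6
    have k : ∀ x ∈ (T : Subgroup G), x * t = t * x → s * x * s * x ∈ A ∧ x * x ∈ A := fun x a1 a2 => by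
      by_cases c : x ∈ A
      · exact ⟨mul_mem (h.sA c) c, mul_mem c c⟩
      · exact ⟨(h.out (h.s_out a1 a2 c).1 (h.s_out a1 a2 c).2.1 (h.s_out a1 a2 c).2.2).2.2 a1 a2 c,
          (h.out a1 a2 c).2.2 a1 a2 c⟩
    rcases h.nz_cases (h.nz m6) with e | e
    · exact (k x m6 e).2
    · simpa [mul_assoc, h.hs.sq'] using (k _ (mul_mem h.sT m6) (h.s_ac e)).1
  have := h.cm m7 ((hn _).1 (ezX e ιX)).1
  rw [conj_mul, conj_mul, conj_mul, conj_mul] at this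
  exact h.ne_z _ (b2.symm.trans (by simpa using this))

end

end Cf

end Cfsg.Lib.Div
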