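import Cfsg.Agent.Lib.Div.FusC

/-!
# Quasisimple groups with reflections: cliques of reflections
-/

set_option autoImplicit false
set_option linter.unusedSectionVars false

namespace Cfsg.Lib.Div
open Subgroup Cfsg.Lib Cfsg.Lib.FT
open scoped commutatorElement

variable {G : Type*} [Group G]

/-- anticommuting elements -/
abbrev Ac (z x y : G) : Prop := x * y = y * x * z

namespace HA0
variable {z : G} (h : HA0 z)
include h

theorem acs {x y : G} (e : Ac z x y) : Ac z y x := by rw [Ac, e, h.zz']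
theorem acn {x y : G} (e : Ac z x y) : x * y ≠ y * x := fun c => h.ne_z _ (e.symm.trans c)
theorem acl {x x' y : G} (c : Ez z x' x) (e : Ac z x y) : Ac z x' y := by
  rcases c with rfl | rfl
  exacts [e, by rw [Ac, h.zm, e, mul_assoc y x z]]
theorem acr {x y y' : G} (c : Ez z y' y) (e : Ac z x y) : Ac z x y' := h.acs (h.acl c (h.acs e))
theorem acc {x y : G} (e : Ac z x y) (g : G) : Ac z (g * x * g⁻¹) (g * y * g⁻¹) := by
  rw [Ac, conj_mul, conj_mul, e, ← mul_assoc, h.zm]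
theorem ac_sq {x y : G} (hx : Rf z x) (hy : Rf z y) (e : Ac z x y) : x * y * (x * y) = z := by
  rw [mul_assoc, ← mul_assoc y, h.acs e, ← mul_assoc, ← mul_assoc, ← mul_assoc, hx.sq, one_mul, h.zm, hy.sq, one_mul]
theorem ac_mul {x y w : G} (e : Ac z x w) (e' : Ac z y w) : x * y * w = w * (x * y) := by
  rw [mul_assoc, e', ← mul_assoc, ← mul_assoc, e, h.zm, h.zz', mul_assoc]
theorem ac_mul' {x y w : G} (e : Ac z x w) (e' : y * w = w * y) : Ac z (x * y) w := by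
  rw [Ac, mul_assoc, e', ← mul_assoc, e, h.zm, mul_assoc w]
theorem nz_ez {x y g : G} (c : Ez z x y) (e : g ∈ h.NZ y) : g ∈ h.NZ x :=
  h.trans (h.conj c g) (h.trans e (h.symm c))
theorem nz_symm {x g : G} (e : g ∈ h.NZ x) : x ∈ h.NZ g :=
  (h.nz_cases e).elim (fun e => h.nz_of_comm e.symm) fun e => h.nz_of_ac (h.acs e)
theorem nz_conj {x g : G} (e : g ∈ h.NZ x) (k : G) : k * g * k⁻¹ ∈ h.NZ (k * x * k⁻¹) := by
  simpa [mem_nz, mul_assoc] using h.conj e k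
theorem nz_mul {x y w : G} (hx : x ∈ h.NZ w) (hy : y ∈ h.NZ w) (e : x * w = w * x ↔ y * w = w * y) :
    x * y * w = w * (x * y) := by
  rcases h.nz_cases hx with c | c
  · exact Commute.mul_left c (e.1 c)
  · exact h.ac_mul c ((h.nz_cases hy).resolve_left (mt e.2 (h.acn c)))
theorem ez_mul {g k x y w : G} (e : Ez z (k * x * k⁻¹) y) (e' : Ez z (g * y * g⁻¹) w) :
    Ez z (g * k * x * (g * k)⁻¹) w := h.trans (by simpa [mul_assoc] using h.conj e g) e'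
theorem ez_cc {g x y : G} (e : Ez z (g * x * g⁻¹) y) (k : G) :
    Ez z (k * g * k⁻¹ * (k * x * k⁻¹) * (k * g * k⁻¹)⁻¹) (k * y * k⁻¹) := by simpa [mul_assoc] using h.conj e k
theorem type_conj {g x w : G} (hg : g ∈ h.NZ w) (e : x * w = w * x) : g * x * g⁻¹ * w = w * (g * x * g⁻¹) :=
  conj_comm (h.comm (by simpa using h.mem_nz.1 (inv_mem hg)) e)

theorem pgE {S : Set G} (h1 : ∀ x ∈ S, Ez z (x * x) 1) (h2 : ∀ x ∈ S, ∀ y ∈ S, x ∈ h.NZ y) :
    IsPGroup 2 (closure S) := by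
  have a1 : ∀ w ∈ closure S, closure S ≤ h.NZ w := fun w hw => (closure_le _).2 fun x hx =>
    h.nz_symm ((closure_le _).2 (fun y hy => h2 y hy x hx) hw)
  have a2 : ∀ w ∈ closure S, Ez z (w * w) 1 := fun w hw => by
    induction hw using closure_induction with
    | mem x hx => exact h1 x hx
    | one => exact .inl (mul_one _)
    | mul a b ha hb e1 e2 =>
      have := h.mul (h.mul e1 (h.mem_nz.1 (a1 b hb (inv_mem ha)))) (.refl _ b)
      exact h.trans (by simpa [mul_assoc] using h.mul (.refl z (a * a)) (h.mul (h.mem_nz.1 (a1 b hb (inv_mem ha)))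
        (.refl _ b))) (by simpa [mul_assoc] using h.mul e1 e2)
    | inv a _ e => simpa using h.inv e
  exact fun w => ⟨2, Subtype.ext (by simpa [pow_succ, mul_assoc] using h.sq_eq (a2 w w.2))⟩

/-- a transposition on a clique -/
def Tr (p q r x y : G) : Prop :=
  ∃ τ, Ez z (τ * p * τ⁻¹) x ∧ Ez z (τ * x * τ⁻¹) p ∧ τ ∈ h.NZ q ∧ τ ∈ h.NZ r ∧ τ ∈ h.NZ y

theorem Tr.map {p q r x y p' q' r' x' y' g : G} (e : h.Tr p q r x y) (e1 : Ez z (g * p * g⁻¹) p')
    (e2 : Ez z (g * q * g⁻¹) q') (e3 : Ez z (g * r * g⁻¹) r') (e4 : Ez z (g * x * g⁻¹) x')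
    (e5 : Ez z (g * y * g⁻¹) y') : h.Tr p' q' r' x' y' := by
  obtain ⟨τ, a1, a2, a3, a4, a5⟩ := e
  exact ⟨g * τ * g⁻¹, h.trans (h.conj (h.symm e1) _) (h.trans (h.ez_cc a1 g) e4),
    h.trans (h.conj (h.symm e4) _) (h.trans (h.ez_cc a2 g) e1), h.nz_ez (h.symm e2) (h.nz_conj a3 g),
    h.nz_ez (h.symm e3) (h.nz_conj a4 g), h.nz_ez (h.symm e5) (h.nz_conj a5 g)⟩

theorem Tr.swap {p q r x y : G} (e : h.Tr p q r x y) : h.Tr p r q x y := by
  obtain ⟨τ, a1, a2, a3, a4, a5⟩ := e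
  exact ⟨τ, a1, a2, a4, a3, a5⟩

end HA0

variable [Finite G]

namespace Cf
variable {z : G} {T : Sylow 2 G} {t s : G} {A : Subgroup G} (h : Cf z T t s A)
include h

theorem three {a b c : G} (ha : Rf z a) (hb : Rf z b) (hc : Rf z c) (ab : Ac z a b) (ac : Ac z a c) (bc : Ac z b c)
    (h1 : a * b ∈ A) (h2 : a * c ∈ A) : False := by
  have e := h.sq_div (h.ac_sq ha hb ab) (h.ac_sq ha hc ac) (h.cm h1 h2)
  rw [h.cm h2 (inv_mem h1), show (a * b)⁻¹ * (a * c) = b * c by simp [mul_assoc, hb.inv], h.ac_sq hb hc bc] at e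
  exact h.z1 e

section
variable {ι : G} (hι : ι ∈ A ⊓ C1[s]) (ι2 : ι * ι = z)
include hι ι2

theorem memA {x : G} (h1 : x ∈ (T : Subgroup G)) (h2 : x * t = t * x) (h3 : x * ι = ι * x) : x ∈ A :=
  by_contra fun c => h.acn (h.ac4 hι.1 ι2 h1 h2 c) h3

theorem prodA {x y : G} (h1 : x ∈ (T : Subgroup G)) (h2 : y ∈ (T : Subgroup G)) (e : x * t = t * x ↔ y * t = t * y)
    (e' : x * ι = ι * x ↔ y * ι = ι * y) : x * y ∈ A :=
  h.memA hι ι2 (mul_mem h1 h2) (h.nz_mul (h.nz h1) (h.nz h2) e) (h.nz_mul (h.nz4 hι ι2 h1) (h.nz4 hι ι2 h2) e')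

theorem three' {a b c : G} (ha : Rf z a) (hb : Rf z b) (hc : Rf z c) (ab : Ac z a b) (ac : Ac z a c) (bc : Ac z b c)
    (aT : a ∈ (T : Subgroup G)) (bT : b ∈ (T : Subgroup G)) (cT : c ∈ (T : Subgroup G)) (a1 : Ac z a t)
    (b1 : Ac z b t) (c1 : Ac z c t) (e : a * ι = ι * a ↔ b * ι = ι * b) : ¬ (a * ι = ι * a ↔ c * ι = ι * c) :=
  fun e' => h.three ha hb hc ab ac bc (h.prodA hι ι2 aT bT (iff_of_false (h.acn a1) (h.acn b1)) e)
    (h.prodA hι ι2 aT cT (iff_of_false (h.acn a1) (h.acn c1)) e')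

theorem dblT {a b c d g : G} (ha : Rf z a) (hb : Rf z b) (hc : Rf z c) (hd : Rf z d) (ab : Ac z a b) (ac : Ac z a c)
    (ad : Ac z a d) (bc : Ac z b c) (cd : Ac z c d) (e1 : Ez z (g * a * g⁻¹) b)
    (e2 : Ez z (g * b * g⁻¹) a) (e3 : Ez z (g * c * g⁻¹) d) (e4 : Ez z (g * d * g⁻¹) c)
    (aT : a ∈ (T : Subgroup G)) (bT : b ∈ (T : Subgroup G)) (cT : c ∈ (T : Subgroup G)) (dT : d ∈ (T : Subgroup G))
    (gT : g ∈ (T : Subgroup G)) : False := by
  have k : ∀ {a b}, Rf z a → a ∈ (T : Subgroup G) → Ac z a b → Ez z (g * a * g⁻¹) b → Ac z a t := fun ha aT ab e =>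
    (h.nz_cases (h.nz aT)).resolve_left fun c => h.acn ab
      (h.comm (h.trans (h.symm e) (h.trans (h.conj (h.rr h.ht ha c) g) (h.nz gT))) c)
  have a1 := k ha aT ab e1
  have b1 := k hb bT (h.acs ab) e2
  have c1 := k hc cT cd e3
  have d1 := k hd dT (h.acs cd) e4
  have k2 : ∀ {a b}, Ez z (g * a * g⁻¹) b → a * ι = ι * a → b * ι = ι * b := fun e c =>
    (h.comm (h.symm e) (h.type_conj (h.nz4 hι ι2 gT) c).symm).symm
  have ab' := h.prodA hι ι2 aT bT (iff_of_false (h.acn a1) (h.acn b1)) ⟨k2 e1, k2 e2⟩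
  have cd' := h.prodA hι ι2 cT dT (iff_of_false (h.acn c1) (h.acn d1)) ⟨k2 e3, k2 e4⟩
  have n1 := h.three' hι ι2 ha hb hc ab ac bc aT bT cT a1 b1 c1 ⟨k2 e1, k2 e2⟩
  have ca1 := h.ac_mul c1 a1
  have ca2 : c * a * ι ≠ ι * (c * a) := by
    rcases h.nz_cases (h.nz4 hι ι2 cT) with e | e <;> rcases h.nz_cases (h.nz4 hι ι2 aT) with e' | e'
    · exact (n1 (iff_of_true e' e)).elim
    · exact fun x => h.acn e' (by simpa [hc.sq'] using (Commute.mul_left e x).eq)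
    · exact h.acn (h.ac_mul' e e')
    · exact (n1 (iff_of_false (h.acn e') (h.acn e))).elim
  obtain ⟨g0, u1, u2, u3⟩ : ∃ g0, g0 ∈ h.NZ b ∧ g0 ∈ h.NZ d ∧ g0 * g ∈ A := by
    by_cases x1 : g * t = t * g
    · by_cases x2 : g * ι = ι * g
      · exact ⟨1, one_mem _, one_mem _, by simpa using h.memA hι ι2 gT x1 x2⟩
      · exact ⟨c * a, mul_mem (h.nz_of_ac (h.acs bc)) (h.nz_of_ac ab), mul_mem (h.nz_of_ac cd) (h.nz_of_ac ad),
          h.prodA hι ι2 (mul_mem cT aT) gT (iff_of_true ca1 x1) (iff_of_false ca2 x2)⟩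
    · by_cases x2 : a * ι = ι * a ↔ g * ι = ι * g
      · exact ⟨a, h.nz_of_ac ab, h.nz_of_ac ad, h.prodA hι ι2 aT gT (iff_of_false (h.acn a1) x1) x2⟩
      · exact ⟨c, h.nz_of_ac (h.acs bc), h.nz_of_ac cd, h.prodA hι ι2 cT gT (iff_of_false (h.acn c1) x1) (by tauto)⟩
  have f1 := h.mul (.refl z a) (h.ez_mul e1 u1)
  have f3 := h.mul (.refl z c) (h.ez_mul e3 u2)
  generalize g0 * g = u at u3 f1 f3
  have uA := h.nA aT u3
  have f4 := h.inv_A (mul_mem cT aT) ca1 (fun e => ca2 (h.cm e hι.1)) uA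
  have f5 : a * (u * a * u⁻¹) * (c * (u * c * u⁻¹)) = u⁻¹ * u⁻¹ :=
    calc _ = a * u * a⁻¹ * u⁻¹ * (c * a * (a * u * a⁻¹) * (c * a)⁻¹) * u⁻¹ := by
          simp [mul_assoc, ha.inv, hc.inv, ha.sq']
      _ = _ := by rw [f4, h.cm uA (inv_mem u3)]; group
  have f6 := h.mul f1 f3
  rw [f5] at f6
  refine h.r2 (h.rf_ez f6 (h.rf_of (by rw [h.mul_sq ab' cd', h.ac_sq ha hb ab, h.ac_sq hc hd cd, h.zz]) fun e => ?_))
  have f7 := h.comm e (g := a) (by simp)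
  exact h.acn (h.ac_mul' (h.acs (show Ac z a (a * b) by rw [Ac, mul_assoc, mul_assoc, ← mul_assoc b, ← ab]))
    (h.ac_mul (h.acs ac) (h.acs ad))) f7.symm

theorem dbl {a b c d g : G} (ha : Rf z a) (hb : Rf z b) (hc : Rf z c) (hd : Rf z d) (ab : Ac z a b) (ac : Ac z a c)
    (ad : Ac z a d) (bc : Ac z b c) (bd : Ac z b d) (cd : Ac z c d) (e1 : Ez z (g * a * g⁻¹) b)
    (e2 : Ez z (g * b * g⁻¹) a) (e3 : Ez z (g * c * g⁻¹) d) (e4 : Ez z (g * d * g⁻¹) c) : False := by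
  obtain ⟨k, m, ⟨j, rfl⟩, hk⟩ := Nat.exists_eq_two_pow_mul_odd (orderOf_pos g).ne'
  have k1 : ∀ {a b}, Ez z (g * a * g⁻¹) b → Ez z (g * b * g⁻¹) a →
      Ez z (g ^ (2 * j + 1) * a * (g ^ (2 * j + 1))⁻¹) b := fun e e' => by
    rw [pow_succ', pow_mul, sq]
    exact h.ez_mul (pow_mem (show g * g ∈ h.NZ _ from h.ez_mul e e') j) e
  have g2 : (g ^ (2 * j + 1)) ^ 2 ^ k = 1 := by rw [← pow_mul, mul_comm, ← hk, pow_orderOf_eq_one]
  have f1 := k1 e1 e2; have f2 := k1 e2 e1; have f3 := k1 e3 e4; have f4 := k1 e4 e3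
  generalize g ^ (2 * j + 1) = g' at g2 f1 f2 f3 f4
  let E := closure ({z, a, b, c, d} : Set G)
  have mz : z ∈ E := subset_closure (by simp)
  have ma : a ∈ E := subset_closure (by simp)
  have mb : b ∈ E := subset_closure (by simp)
  have mc : c ∈ E := subset_closure (by simp)
  have md : d ∈ E := subset_closure (by simp)
  have ez : ∀ {x y}, Ez z x y → y ∈ E → x ∈ E := by
    rintro x y (rfl | rfl) e
    exacts [e, mul_mem e mz]
  have hE : IsPGroup 2 E := h.pgE (by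
      rintro _ (rfl | rfl | rfl | rfl | rfl)
      exacts [.inl h.zz, .inl ha.sq, .inl hb.sq, .inl hc.sq, .inl hd.sq]) (by
      rintro _ (rfl | rfl | rfl | rfl | rfl) _ (rfl | rfl | rfl | rfl | rfl) <;>
        first | exact h.nz_of_comm rfl | exact h.nz_of_comm (h.zc _) | exact h.nz_of_comm (h.zc _).symm |
          (apply h.nz_of_ac; assumption) | (apply h.nz_of_ac; apply h.acs; assumption))
  obtain ⟨n, hn⟩ := exists_conj_mem_sylow T (IsPGroup.to_sup_of_normal_right' (pzp k g2) hE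
    (zpowers_le.2 (mem_normalizer_fintype fun x hx => (closure_le (E.comap (MulAut.conj g').toMonoidHom)).2 (by
      rintro _ (rfl | rfl | rfl | rfl | rfl)
      exacts [ez (.inl (h.cz _)) mz, ez f1 mb, ez f2 ma, ez f3 md, ez f4 mc]) hx)))
  exact h.dblT hι ι2 (h.rf_conj ha n) (h.rf_conj hb n) (h.rf_conj hc n) (h.rf_conj hd n) (h.acc ab n) (h.acc ac n)
    (h.acc ad n) (h.acc bc n) (h.acc cd n) (h.ez_cc f1 n) (h.ez_cc f2 n) (h.ez_cc f3 n) (h.ez_cc f4 n)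
    (hn _ (mem_sup_right ma)) (hn _ (mem_sup_right mb)) (hn _ (mem_sup_right mc)) (hn _ (mem_sup_right md))
    (hn _ (mem_sup_left (mem_zpowers _)))

end

end Cf

end Cfsg.Lib.Div
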