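import Cfsg.Agent.Lib.Div.FusD

/-!
# Quasisimple groups with reflections: the last cases
-/

set_option autoImplicit false
set_option linter.unusedSectionVars false

namespace Cfsg.Lib.Div
open Subgroup Cfsg.Lib Cfsg.Lib.FT
open scoped commutatorElement

variable {G : Type*} [Group G]

/-- the configuration with reflections in two cosets of `A` -/
structure Cb (z : G) (T : Sylow 2 G) (t s : G) (A : Subgroup G) (c ι : G) : Prop extends Cf z T t s A where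
  hc : Rf z c
  cT : c ∈ (T : Subgroup G)
  ct : Ac z c t
  cs : Ac z c s
  act : ∀ {a}, a ∈ A → c * a * c = (s * a * s)⁻¹
  hι : ι ∈ A ⊓ C1[s]
  ι2 : ι * ι = z

variable [Finite G]

namespace Cb
variable {z : G} {T : Sylow 2 G} {t s c ι : G} {A : Subgroup G} (h : Cb z T t s A c ι)
include h

theorem sι : s * ι = ι * s := (h.mC.1 h.hι).2
theorem ιt2 : ι * t * (ι * t) = z := by rw [h.mul_sq h.hι.1 h.tA, h.ι2, h.ht.sq, mul_one]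
theorem ιtJ : ι * t ∈ h.J := ⟨mul_mem h.hι.1 h.tA, by
  rw [h.inv4 h.ιt2, ← mul_assoc, h.sι, mul_assoc, mul_assoc, ← mul_assoc s, h.sts, mul_assoc]⟩

theorem swap : Cb z T t c A s (ι * t) :=
  { h.chg h.hc h.cT h.ct with
    hc := h.hs, cT := h.sT, ct := h.st, cs := h.acs h.cs
    act := fun ha => by rw [h.act ha, inv_inv]
    hι := (h.chg h.hc h.cT h.ct).mC.2 ⟨h.ιtJ.1, (h.chg h.hc h.cT h.ct).fix.1 (by rw [h.act h.ιtJ.1, h.ιtJ.2, inv_inv])⟩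
    ι2 := h.ιt2 }

theorem cC {ν : G} (hν : ν ∈ A ⊓ C1[s]) : c * ν * c = ν⁻¹ := by rw [h.act hν.1, h.fix.2 (h.mC.1 hν).2]
theorem swapJ {u : G} (hu : u ∈ h.swap.J) : u ∈ A ⊓ C1[s] :=
  h.mC.2 ⟨hu.1, h.fix.1 (inv_injective ((h.act hu.1).symm.trans hu.2))⟩
theorem cι : Ac z c ι := by
  have := h.cC h.hι
  rw [h.inv4 h.ι2, ← eq_mul_inv_iff_mul_eq, h.hc.inv, h.zm] at this
  exact this
theorem conjC {μ ν : G} (hμ : μ ∈ A ⊓ C1[s]) (hν : ν ∈ A ⊓ C1[s]) : ν * (c * μ) * ν⁻¹ = c * (μ * (ν * ν)⁻¹) :=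
  calc _ = c * (c * ν * c) * μ * ν⁻¹ := by simp [mul_assoc, h.hc.sq']
    _ = _ := by rw [h.cC hν, mul_assoc c, h.cm (inv_mem hν.1) hμ.1]; group
theorem cμT {μ : G} (hμ : μ ∈ A ⊓ C1[s]) : c * μ ∈ (T : Subgroup G) := mul_mem h.cT (h.AT hμ.1)
theorem cμt {μ : G} (hμ : μ ∈ A ⊓ C1[s]) : Ac z (c * μ) t := h.ac_mul' h.ct (h.at' hμ.1)
theorem cμs {μ : G} (hμ : μ ∈ A ⊓ C1[s]) : Ac z (c * μ) s := h.ac_mul' h.cs (h.mC.1 hμ).2.symm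
theorem cμι {μ : G} (hμ : μ ∈ A ⊓ C1[s]) : Ac z (c * μ) ι := h.ac_mul' h.cι (h.cm hμ.1 h.hι.1)
theorem rfc {μ : G} (hμ : μ ∈ A ⊓ C1[s]) : Rf z (c * μ) :=
  h.rf_of (by rw [← mul_assoc, h.cC hμ, inv_mul_cancel]) fun e => h.acn (h.cμt hμ) (h.comm e (by simp)).symm
theorem cc {μ : G} (hμ : μ ∈ A ⊓ C1[s]) : Ac z (c * μ) (c * (μ * ι)) := by
  rw [Ac, ← mul_assoc c, ← mul_assoc, (h.rfc hμ).sq, mul_assoc (c * μ), ← mul_assoc (c * μ), h.cμι hμ, h.zm,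
    h.zz', mul_assoc, (h.rfc hμ).sq, one_mul, mul_one]

theorem sq1C {u : G} (hu : u ∈ A ⊓ C1[s]) (e : u * u = 1) : Ez z u 1 := (h.inW hu.1 e).resolve_right fun c => h.tC c hu
theorem sq1J {u : G} (hu : u ∈ h.J) (e : u * u = 1) : Ez z u 1 := (h.inW hu.1 e).resolve_right fun c => h.tJ c hu

theorem ctype {q : G} (h1 : Rf z q) (h2 : q ∈ (T : Subgroup G)) (h3 : Ac z q t) (h4 : q * ι ≠ ι * q) :
    ∃ μ ∈ A ⊓ C1[s], q = c * μ :=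
  ⟨c * q, h.swapJ ⟨h.prodA h.hι h.ι2 h.cT h2 (iff_of_false (h.acn h.ct) (h.acn h3)) (iff_of_false (h.acn h.cι) h4),
    by simp [h.hc.sq', h.hc.inv, h1.inv]⟩, (h.hc.sq' q).symm⟩

theorem cpair {μ q : G} (hμ : μ ∈ A ⊓ C1[s]) (h1 : Rf z q) (h2 : q ∈ (T : Subgroup G)) (h3 : Ac z q t)
    (h4 : q * ι ≠ ι * q) (e : Ac z (c * μ) q) : Ez z q (c * (μ * ι)) := by
  obtain ⟨ν, hν, rfl⟩ := h.ctype h1 h2 h3 h4
  have a1 := h.ac_sq (h.rfc hμ) h1 e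
  rw [← mul_assoc (c * μ), h.cC hμ] at a1
  have a2 := mul_mem (inv_mem hμ) hν
  have a3 := h.of_mul_inv (h.sq1C (mul_mem a2 (inv_mem h.hι)) (h.sq_div h.ι2 a1 (h.cm h.hι.1 a2.1)))
  simpa [mul_assoc] using h.mul (.refl z (c * μ)) a3

theorem nearC {u : G} (hu : u ∈ A) (e : Ez z (s * u * s) u) : u ∈ A ⊓ C1[s] ∨ u * t ∈ A ⊓ C1[s] :=
  e.imp (fun e => h.mC.2 ⟨hu, h.fix.1 e⟩) fun e => h.mC.2 ⟨mul_mem hu h.tA, h.fix.1 (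
    calc s * (u * t) * s = s * u * s * (s * t * s) := by simp [mul_assoc, h.hs.sq']
      _ = _ := by rw [e, h.sts, ← mul_assoc, h.zm u, h.zz'])⟩

theorem nC {u : G} (hu : u ∈ A) : s * u * s * u ∈ A ⊓ C1[s] := h.mC.2 ⟨mul_mem (h.sA hu) hu, h.fix.1 (by
  nth_rw 2 [h.cm (h.sA hu) hu]; simp [mul_assoc, h.hs.sq'])⟩

theorem ex4 (hC : ∀ j ∈ A ⊓ C1[s], j * j * (j * j) = 1) {u : G} (hu : u ∈ A) (e : Ez z (u * u) ι) : False := by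
  have a1 := h.comm e h.sι
  have a2 := h.brJ hu
  have a3 : s * u * s * u⁻¹ * (s * u * s * u⁻¹) = 1 := by
    rw [h.mul_sq (h.sA hu) (inv_mem hu), show s * u * s * (s * u * s) = s * (u * u) * s by
      simp [mul_assoc, h.hs.sq'], h.fix.2 a1]; group
  have a4 : u * u * (u * u) ≠ 1 := by rw [h.sq_eq e, h.ι2]; exact h.z1
  rcases h.nearC hu (h.of_mul_inv (h.sq1J a2 a3)) with c | c
  · exact a4 (hC _ c)
  · exact a4 (by simpa [h.mul_sq hu h.tA, h.ht.sq] using hC _ c)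

theorem swapC {u : G} (hu : u ∈ A ⊓ C1[c]) : u ∈ h.J :=
  ⟨hu.1, by rw [← inv_inj, ← h.act hu.1, inv_inv]; exact h.swap.fix.2 (h.swap.mC.1 hu).2⟩

theorem es (hJ : ∀ j ∈ h.J, j * j * (j * j) = 1) (hC : ∀ j ∈ A ⊓ C1[s], j * j * (j * j) = 1) : False := by
  have k1 : ∀ u ∈ A, Ez z (u * u) 1 := fun u hu => h.sq4 (by_contra fun c => by
    have a1 : u * u ∈ h.X := by
      have := h.X.mul_mem (h.X.inv_mem (x := s * u * s * u⁻¹) ⟨(h.brJ hu).1, hJ _ (h.brJ hu)⟩)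
        (x := _) (y := s * u * s * u) ⟨(h.nC hu).1, hC _ (h.nC hu)⟩
      simpa [mul_assoc] using this
    have a2 := (ez_one.1 (h.sq4 a1.2)).resolve_left c
    rcases h.inW (mul_mem a1.1 (inv_mem h.hι.1)) (h.sq_div h.ι2 a2 (h.cm h.hι.1 a1.1)) with e | e
    · exact h.ex4 hC hu (h.of_mul_inv e)
    · refine h.swap.ex4 (fun j hj => hJ j (h.swapC hj)) hu ?_
      simpa [h.at' h.hι.1] using h.mul e (.refl _ ι))
  have k2 : ∀ {s c ι}, Cb z T t s A c ι → ∀ u ∈ A, Ez z (s * u * (s * u)) 1 := fun {s c ι} h u hu => by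
    rw [← mul_assoc]
    refine h.sq1C (h.nC hu) ?_
    rw [h.mul_sq (h.sA hu) hu]
    rcases ez_one.1 (k1 u hu) with e | e <;>
      rw [show s * u * s * (s * u * s) = s * (u * u) * s by simp [mul_assoc, h.hs.sq'], e]
    · simp [h.hs.sq]
    · rw [h.zm, h.hs.sq, one_mul, h.zz]
  have zc : ∀ {x}, Ez z x 1 → x ∈ center G := by
    rintro x (rfl | rfl)
    exacts [one_mem _, mul_mem (one_mem _) h.z_mem]
  obtain ⟨g, hg⟩ := h.wal T (fun x hx => zc (by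
    rcases h.nz_cases (h.nz hx) with e | e
    · by_cases c : x ∈ A
      exacts [k1 x c, ez_one.2 (.inr (h.out hx e c).1)]
    · by_cases e' : x * ι = ι * x
      · simpa [h.hs.sq'] using k2 h _ (h.prodA h.hι h.ι2 h.sT hx (iff_of_false (h.acn h.st) (h.acn e))
          (iff_of_true h.sι e'))
      · simpa [h.hc.sq'] using k2 h.swap _ (h.prodA h.hι h.ι2 h.cT hx (iff_of_false (h.acn h.ct) (h.acn e))
          (iff_of_false (h.acn h.cι) e')))) h.tT (h.AT h.hι.1) (h.cen h.ht)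
    fun e => h.acn h.cι (mem_center_iff.1 e c)
  have a1 := h.rf_conj h.ht g
  generalize g * t * g⁻¹ = r at hg a1
  have a2 := mem_center_iff.1 hg
  have a3 := h.memA h.hι h.ι2 (h.cen_le T hg) (a2 t).symm (a2 ι).symm
  have a4 := h.cC (h.mC.2 ⟨a3, a2 s⟩)
  have a5 : ι * ι = r⁻¹ * ι * (r⁻¹ * ι) := by
    have e : ι = r * (r⁻¹ * ι) := by simp
    generalize r⁻¹ * ι = w at a2 e
    rw [e, mul_assoc, ← mul_assoc w, ← a2, mul_assoc, a1.sq']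
  rw [a2, mul_assoc, h.hc.sq, mul_one] at a4
  nth_rw 2 [a4] at a5
  exact h.z1 (by rw [← h.ι2, a5, mul_inv_cancel])

section
variable (hJ : ∀ j ∈ h.J, j * j * (j * j) = 1) {n : G} (hn : n ∈ A ⊓ C1[s]) (n2 : ι = n * n)
include hJ

theorem ptype {q : G} (h1 : Rf z q) (h2 : q ∈ (T : Subgroup G)) (h3 : Ac z q t) (h4 : q * ι = ι * q) :
    Ez z q s ∨ Ez z q (s * (ι * t)) := by
  have a1 : s * q ∈ h.J := ⟨h.prodA h.hι h.ι2 h.sT h2 (iff_of_false (h.acn h.st) (h.acn h3)) (iff_of_true h.sι h4),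
    by simp [h.hs.sq', h.hs.inv, h1.inv]⟩
  rcases ez_one.1 (h.sq4 (hJ _ a1)) with e | e
  · exact .inl (by simpa [h.hs.sq'] using h.mul (.refl z s) (h.sq1J a1 e))
  · exact .inr (by simpa [h.hs.sq'] using h.mul (.refl z s) (h.of_mul_inv (h.sq1J (mul_mem a1 (inv_mem h.ιtJ))
      (h.sq_div h.ιt2 e (h.cm h.ιtJ.1 a1.1)))))

theorem ppair {q r : G} (h1 : Rf z q) (h2 : q ∈ (T : Subgroup G)) (h3 : Ac z q t) (h4 : q * ι = ι * q)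
    (r1 : Rf z r) (r2 : r ∈ (T : Subgroup G)) (r3 : Ac z r t) (r4 : r * ι = ι * r) (e : Ac z q r) :
    (Ez z q s ∧ Ez z r (s * (ι * t))) ∨ (Ez z q (s * (ι * t)) ∧ Ez z r s) := by
  rcases h.ptype hJ h1 h2 h3 h4 with a | a <;> rcases h.ptype hJ r1 r2 r3 r4 with b | b
  exacts [(h.acn e (h.comm (h.trans b (h.symm a)) rfl)).elim, .inl ⟨a, b⟩, .inr ⟨a, b⟩,
    (h.acn e (h.comm (h.trans b (h.symm a)) rfl)).elim]

omit hJ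
include hn n2

theorem nsw {μ : G} (hμ : μ ∈ A ⊓ C1[s]) :
    Ez z (n * (c * μ) * n⁻¹) (c * (μ * ι)) ∧ Ez z (n * (c * (μ * ι)) * n⁻¹) (c * μ) :=
  ⟨.inr (by rw [h.conjC hμ hn, ← n2, h.inv4 h.ι2]; simp only [mul_assoc]),
    .inl (by rw [h.conjC (mul_mem hμ h.hι) hn, ← n2, mul_inv_cancel_right])⟩

theorem nsw' {q r : G} (h1 : Rf z q) (h2 : q ∈ (T : Subgroup G)) (h3 : Ac z q t) (h4 : q * ι ≠ ι * q)
    (r1 : Rf z r) (r2 : r ∈ (T : Subgroup G)) (r3 : Ac z r t) (r4 : r * ι ≠ ι * r) (e : Ac z q r) :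
    Ez z (n * q * n⁻¹) r ∧ Ez z (n * r * n⁻¹) q := by
  obtain ⟨μ, hμ, rfl⟩ := h.ctype h1 h2 h3 h4
  have a := h.cpair hμ r1 r2 r3 r4 e
  exact ⟨h.trans (h.nsw hn n2 hμ).1 (h.symm a), h.trans (h.conj a n) (h.nsw hn n2 hμ).2⟩

omit hn n2

/-- the reflections centralising `C` -/
structure Pt (_h : Cb z T t s A c ι) (q : G) : Prop where
  rf : Rf z q
  qT : q ∈ (T : Subgroup G)
  cm : ∀ {ν}, ν ∈ A ⊓ C1[s] → ν * q = q * ν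
  ac : Ac z c q

theorem pt1 : h.Pt t := ⟨h.ht, h.tT, fun e => h.at' e.1, h.ct⟩
theorem pt2 : h.Pt s := ⟨h.hs, h.sT, fun e => (h.mC.1 e).2.symm, h.cs⟩
theorem p3t : Ac z (s * (ι * t)) t := h.ac_mul' h.st (h.at' h.ιtJ.1)
theorem p3s : Ac z (s * (ι * t)) s := by
  rw [Ac, h.ιtJ.2, h.hs.sq', h.inv4 h.ιt2]
theorem pt3 : h.Pt (s * (ι * t)) :=
  ⟨h.rf_of (by rw [← mul_assoc, h.ιtJ.2, inv_mul_cancel]) fun e => h.acn h.p3t (h.comm e (by simp)).symm,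
    mul_mem h.sT (h.AT h.ιtJ.1), fun e => Commute.mul_right (h.mC.1 e).2.symm (h.cm e.1 h.ιtJ.1),
    h.acs (h.ac_mul' (h.acs h.cs) (h.ac_mul (h.acs h.cι) (h.acs h.ct)))⟩
theorem Pt.acμ {q μ : G} (e : h.Pt q) (hμ : μ ∈ A ⊓ C1[s]) : Ac z (c * μ) q := h.ac_mul' e.ac (e.cm hμ)

/-- a transposition of a `p` with a `c` -/
def Tp (p q r : G) : Prop := ∃ μ ∈ A ⊓ C1[s], h.Tr p q r (c * μ) (c * (μ * ι))

include hJ hn n2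

theorem pn {q : G} (h1 : Rf z q) (h2 : q ∈ (T : Subgroup G)) (h3 : Ac z q t) (h4 : q * ι = ι * q) : n ∈ h.NZ q :=
  (h.ptype hJ h1 h2 h3 h4).elim (fun e => h.nz_ez e (h.nz_of_comm (h.pt2.cm hn)))
    fun e => h.nz_ez e (h.nz_of_comm (h.pt3.cm hn))

theorem key {a b d q : G} (ha : Rf z a) (hb : Rf z b) (hd : Rf z d) (hq : Rf z q) (aT : a ∈ (T : Subgroup G))
    (bT : b ∈ (T : Subgroup G)) (dT : d ∈ (T : Subgroup G)) (qT : q ∈ (T : Subgroup G)) (a1 : Ac z a t)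
    (b1 : Ac z b t) (d1 : Ac z d t) (q1 : Ac z q t) (ab : Ac z a b) (ad : Ac z a d) (aq : Ac z a q) (bd : Ac z b d)
    (bq : Ac z b q) (dq : Ac z d q) (e : a * ι = ι * a ↔ b * ι = ι * b) (tr : h.Tr t a b q d) :
    h.Tp t s (s * (ι * t)) := by
  have c1 := h.three' h.hι h.ι2 ha hb hd ab ad bd aT bT dT a1 b1 d1 e
  have c2 := h.three' h.hι h.ι2 ha hb hq ab aq bq aT bT qT a1 b1 q1 e
  by_cases x : a * ι = ι * a
  · obtain ⟨μ, hμ, rfl⟩ := h.ctype hq qT q1 (by tauto)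
    have c3 := h.cpair hμ hd dT d1 (by tauto) (h.acs dq)
    refine ⟨μ, hμ, ?_⟩
    rcases h.ppair hJ ha aT a1 x hb bT b1 (e.1 x) ab with ⟨c4, c5⟩ | ⟨c4, c5⟩
    · exact tr.map h.toHA0 (g := 1) (by simpa using .refl _ _) (by simpa) (by simpa) (by simpa using .refl _ _) (by simpa)
    · exact (tr.swap h.toHA0).map h.toHA0 (g := 1) (by simpa using .refl _ _) (by simpa) (by simpa)
        (by simpa using .refl _ _) (by simpa)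
  · obtain ⟨τ, t1, t2, t3, t4, -⟩ := tr
    obtain ⟨c3, c4⟩ := h.nsw' hn n2 ha aT a1 x hb bT b1 (by tauto) ab
    exact (h.dbl h.hι h.ι2 h.ht hq ha hb (h.acs q1) (h.acs a1) (h.acs b1) (h.acs aq) (h.acs bq) ab
      (h.ez_mul (h.nz_of_comm (h.at' hn.1)) t1) (h.ez_mul (h.pn hJ hn n2 hq qT q1 (by tauto)) t2)
      (h.ez_mul c3 t4) (h.ez_mul c4 t3)).elim

theorem tp1 : h.Tp t s (s * (ι * t)) := by
  have o := one_mem (A ⊓ C1[s])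
  have oι := mul_mem o h.hι
  obtain ⟨g0, h1, h2⟩ := h.tt T h.nz h.sT (h.acn h.st) (h.rfc o).sq
  obtain ⟨g, e, hg⟩ := h.ext1 T h.nz (h.rr h.ht (h.rf_conj (h.rfc o) g0) h2)
  have k : ∀ {q}, h.Pt q → Rf z (g * q * g⁻¹) ∧ g * q * g⁻¹ ∈ (T : Subgroup G) ∧ Ac z (g * q * g⁻¹) t ∧
      Ac z (g * q * g⁻¹) (g * (c * (1 * ι)) * g⁻¹) ∧ g * n * g⁻¹ ∈ h.NZ (g * q * g⁻¹) := fun hq =>
    ⟨h.rf_conj hq.rf g, hg _ hq.qT (h.nz_of_ac (h.acs (hq.acμ h o))),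
      h.acr (h.symm e) (h.acc (h.acs (hq.acμ h o)) g), h.acc (h.acs (hq.acμ h oι)) g,
      h.nz_conj (h.nz_of_comm (hq.cm hn)) g⟩
  obtain ⟨a1, a2, a3, a4, a5⟩ := k h.pt1
  obtain ⟨b1, b2, b3, b4, b5⟩ := k h.pt2
  obtain ⟨d1, d2, d3, d4, d5⟩ := k h.pt3
  have q1 := h.rf_conj (h.rfc oι) g
  have q2 := hg _ (h.cμT oι) (h.nz_of_ac (h.acs (h.cc o)))
  have q3 := h.acr (h.symm e) (h.acc (h.acs (h.cc o)) g)
  have t1 := h.trans (h.conj (h.symm e) _) (h.ez_cc (h.nsw hn n2 o).1 g)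
  have t2 := h.trans (h.ez_cc (h.nsw hn n2 o).2 g) e
  have ab := h.acc (h.acs h.st) g
  have ad := h.acc (h.acs h.p3t) g
  have bd := h.acc (h.acs h.p3s) g
  by_cases x : g * t * g⁻¹ * ι = ι * (g * t * g⁻¹) ↔ g * s * g⁻¹ * ι = ι * (g * s * g⁻¹)
  · exact h.key hJ hn n2 a1 b1 d1 q1 a2 b2 d2 q2 a3 b3 d3 q3 ab ad a4 bd b4 d4 x ⟨_, t1, t2, a5, b5, d5⟩
  by_cases y : g * t * g⁻¹ * ι = ι * (g * t * g⁻¹) ↔ g * (s * (ι * t)) * g⁻¹ * ι = ι * (g * (s * (ι * t)) * g⁻¹)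
  · exact h.key hJ hn n2 a1 d1 b1 q1 a2 d2 b2 q2 a3 d3 b3 q3 ad ab a4 (h.acs bd) d4 b4 y ⟨_, t1, t2, a5, d5, b5⟩
  · exact h.key hJ hn n2 b1 d1 a1 q1 b2 d2 a2 q2 b3 d3 a3 q3 bd (h.acs ab) b4 (h.acs ad) d4 a4 (by tauto)
      ⟨_, t1, t2, b5, d5, a5⟩

theorem move {p q : G} (hp : h.Pt p) (hq : h.Pt q) (pt : Ac z p t) (qt : Ac z q t) (pq : Ac z p q) :
    ∃ g, Ez z (g * p * g⁻¹) t ∧ ((Ez z (g * t * g⁻¹) s ∧ Ez z (g * q * g⁻¹) (s * (ι * t))) ∨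
      (Ez z (g * t * g⁻¹) (s * (ι * t)) ∧ Ez z (g * q * g⁻¹) s)) ∧ ∀ {x y w x' y' w'}, h.Tp x y w →
        Ez z (g * x * g⁻¹) x' → Ez z (g * y * g⁻¹) y' → Ez z (g * w * g⁻¹) w' → h.Tp x' y' w' := by
  obtain ⟨g0, h1, h2⟩ := h.tt T h.nz h.sT (h.acn h.st) hp.rf.sq
  obtain ⟨g, e, hg⟩ := h.ext1 T h.nz (h.rr h.ht (h.rf_conj hp.rf g0) h2)
  have a1 := h.rf_conj h.ht g
  have a2 := hg _ h.tT (h.nz_of_ac (h.acs pt))
  have a3 := h.acr (h.symm e) (h.acc (h.acs pt) g)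
  have b1 := h.rf_conj hq.rf g
  have b2 := hg _ hq.qT (h.nz_of_ac (h.acs pq))
  have b3 := h.acr (h.symm e) (h.acc (h.acs pq) g)
  have ab := h.acc (h.acs qt) g
  have nT := hg _ (h.AT hn.1) (h.nz_of_comm (hp.cm hn))
  have k : ∀ {μ}, μ ∈ A ⊓ C1[s] → Rf z (g * (c * μ) * g⁻¹) ∧ g * (c * μ) * g⁻¹ ∈ (T : Subgroup G) ∧
      Ac z (g * (c * μ) * g⁻¹) t ∧ Ac z (g * (c * μ) * g⁻¹) (g * t * g⁻¹) ∧
      Ac z (g * (c * μ) * g⁻¹) (g * q * g⁻¹) := fun hμ =>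
    ⟨h.rf_conj (h.rfc hμ) g, hg _ (h.cμT hμ) (h.nz_of_ac (hp.acμ h hμ)), h.acr (h.symm e) (h.acc (hp.acμ h hμ) g),
      h.acc (h.cμt hμ) g, h.acc (hq.acμ h hμ) g⟩
  have k2 : ∀ {μ}, μ ∈ A ⊓ C1[s] → g * (c * μ) * g⁻¹ * ι ≠ ι * (g * (c * μ) * g⁻¹) ∧
      g * (c * (μ * ι)) * g⁻¹ * ι ≠ ι * (g * (c * (μ * ι)) * g⁻¹) ∧ g * t * g⁻¹ * ι = ι * (g * t * g⁻¹) ∧
      g * q * g⁻¹ * ι = ι * (g * q * g⁻¹) := fun {μ} hμ => by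
    obtain ⟨c1, c2, c3, c4, c5⟩ := k hμ
    obtain ⟨d1, d2, d3, d4, d5⟩ := k (mul_mem hμ h.hι)
    have t1 := h.ez_cc (h.nsw hn n2 hμ).1 g
    have t2 := h.ez_cc (h.nsw hn n2 hμ).2 g
    have cd := h.acc (h.cc hμ) g
    have k3 : ∀ {a b}, Ez z (g * n * g⁻¹ * a * (g * n * g⁻¹)⁻¹) b → a * ι = ι * a → b * ι = ι * b := fun e c =>
      (h.comm (h.symm e) (h.type_conj (h.nz4 h.hι h.ι2 nT) c).symm).symm
    have x1 := h.three' h.hι h.ι2 c1 d1 a1 cd c4 d4 c2 d2 a2 c3 d3 a3 ⟨k3 t1, k3 t2⟩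
    have x2 := h.three' h.hι h.ι2 c1 d1 b1 cd c5 d5 c2 d2 b2 c3 d3 b3 ⟨k3 t1, k3 t2⟩
    by_cases x : g * (c * μ) * g⁻¹ * ι = ι * (g * (c * μ) * g⁻¹)
    · obtain ⟨f1, f2⟩ := h.nsw' hn n2 a1 a2 a3 (by tauto) b1 b2 b3 (by tauto) ab
      exact (h.dbl h.hι h.ι2 c1 d1 a1 b1 cd c4 c5 d4 d5 ab (h.ez_mul (h.pn hJ hn n2 c1 c2 c3 x) t1)
        (h.ez_mul (h.pn hJ hn n2 d1 d2 d3 (k3 t1 x)) t2) (h.ez_mul f1 (h.nz_conj (h.nz_of_comm (hq.cm hn)) g))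
        (h.ez_mul f2 (h.nz_conj (h.nz_of_comm (h.at' hn.1)) g))).elim
    · exact ⟨x, mt (k3 t2) x, by tauto, by tauto⟩
  refine ⟨g, e, h.ppair hJ a1 a2 a3 (k2 (one_mem _)).2.2.1 b1 b2 b3 (k2 (one_mem _)).2.2.2 ab, ?_⟩
  rintro x y w x' y' w' ⟨μ, hμ, tr⟩ e1 e2 e3
  obtain ⟨c1, c2, c3, -⟩ := k hμ
  obtain ⟨d1, d2, d3, -⟩ := k (mul_mem hμ h.hι)
  obtain ⟨ν, hν, e4⟩ := h.ctype c1 c2 c3 (k2 hμ).1
  exact ⟨ν, hν, tr.map h.toHA0 e1 e2 e3 (.inl e4) (h.cpair hν d1 d2 d3 (k2 hμ).2.1 (e4 ▸ h.acc (h.cc hμ) g))⟩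

omit hJ in
theorem fin2 {x y w w' μ ν : G} (hx : h.Pt x) (hy : h.Pt y) (hw : h.Pt w) (xy : Ac z x y) (hμ : μ ∈ A ⊓ C1[s])
    (hν : ν ∈ A ⊓ C1[s]) (t1 : h.Tr x y w (c * (μ * (ν * ν))) (c * (μ * (ν * ν) * ι)))
    (t2 : h.Tr y x w' (c * μ) (c * (μ * ι))) : False := by
  have m := mul_mem hμ (mul_mem hν hν)
  have k : ∀ {q ν}, h.Pt q → ν ∈ A ⊓ C1[s] → Ez z (ν * q * ν⁻¹) q := fun hq hν => h.nz_of_comm (hq.cm hν)
  obtain ⟨τ, a1, a2, a3, -, a4⟩ := (t1.map h.toHA0 (k hx hν) (k hy hν) (k hw hν) (x' := c * μ) (y' := c * (μ * ι))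
    (.inl (by rw [h.conjC m hν, mul_inv_cancel_right])) (.inl (by
      rw [h.conjC (mul_mem m h.hι) hν, mul_assoc μ, h.cm (mul_mem hν hν).1 h.hι.1, ← mul_assoc μ,
        mul_inv_cancel_right]))).map h.toHA0 (k hx hn) (k hy hn) (k hw hn) (h.nsw hn n2 hμ).1 (h.nsw hn n2 hμ).2
  obtain ⟨σ, b1, b2, b3, -, b4⟩ := t2
  have mι := mul_mem hμ h.hι
  exact h.dbl h.hι h.ι2 hx.rf (h.rfc mι) hy.rf (h.rfc hμ) (h.acs (hx.acμ h mι)) xy (h.acs (hx.acμ h hμ))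
    (hy.acμ h mι) (h.acs (h.cc hμ)) (h.acs (hy.acμ h hμ)) (h.ez_mul b3 a1) (h.ez_mul b4 a2) (h.ez_mul b1 a4)
    (h.ez_mul b2 a3)

theorem clique : False := by
  have sw : ∀ {x y w}, h.Tp x y w → h.Tp x w y := fun ⟨μ, hμ, e⟩ => ⟨μ, hμ, e.swap h.toHA0⟩
  have P1 := h.tp1 hJ hn n2
  have P2 : h.Tp s t (s * (ι * t)) := by
    obtain ⟨g, e, ⟨e1, e2⟩ | ⟨e1, e2⟩, m⟩ := h.move hJ hn n2 h.pt2 h.pt3 h.st h.p3t (h.acs h.p3s)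
    exacts [m P1 e1 e e2, sw (m (m P1 e1 e e2) e2 e1 e)]
  have P3 : h.Tp (s * (ι * t)) t s := by
    obtain ⟨g, e, ⟨e1, e2⟩ | ⟨e1, e2⟩, m⟩ := h.move hJ hn n2 h.pt3 h.pt2 h.p3t h.st h.p3s
    exacts [sw (m P2 e2 e1 e), sw (m P1 e1 e2 e)]
  obtain ⟨g, hg, e⟩ := h.cyc (K := A ⊓ C1[s]) inf_le_left fun _ => h.tC
  obtain ⟨μ1, h1, P1⟩ := P1
  obtain ⟨μ2, h2, P2⟩ := P2
  obtain ⟨μ3, h3, P3⟩ := P3
  obtain ⟨n1, rfl⟩ := e _ h1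
  obtain ⟨n2', rfl⟩ := e _ h2
  obtain ⟨n3, rfl⟩ := e _ h3
  have k : ∀ {a b : ℤ}, (a - b) % 2 = 0 → g ^ a = g ^ b * (g ^ ((a - b) / 2) * g ^ ((a - b) / 2)) := fun e => by
    rw [← zpow_add, ← zpow_add]; congr 1; omega
  rcases (by omega : (n1 - n2') % 2 = 0 ∨ (n1 - n3) % 2 = 0 ∨ (n2' - n3) % 2 = 0) with c | c | c
  · exact h.fin2 hn n2 h.pt1 h.pt2 h.pt3 (h.acs h.st) h2 (zpow_mem hg _) (k c ▸ P1) P2
  · exact h.fin2 hn n2 h.pt1 h.pt3 h.pt2 (h.acs h.p3t) h3 (zpow_mem hg _) (k c ▸ P1.swap h.toHA0) P3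
  · exact h.fin2 hn n2 h.pt2 h.pt3 h.pt1 (h.acs h.p3s) h3 (zpow_mem hg _) (k c ▸ P2.swap h.toHA0) (P3.swap h.toHA0)

end

theorem ex_of {K : Subgroup G} {x : G} (xx : x * x = z) (e : ∀ y ∈ K, y ∈ zpowers x) (j : G) (hj : j ∈ K) :
    j * j * (j * j) = 1 := by
  obtain ⟨k, rfl⟩ := e j hj
  simp only
  rw [← (Commute.refl x).mul_zpow, xx, ← (Commute.refl z).mul_zpow, h.zz, one_zpow]

theorem caseB' (hJ : ∀ j ∈ h.J, j * j * (j * j) = 1) : False :=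
  (h.sq_or (K := A ⊓ C1[s]) inf_le_left (fun _ => h.tC) h.hι).elim (fun ⟨_, hn, e⟩ => h.clique hJ hn e)
    fun e => h.es hJ (h.ex_of h.ι2 e)

theorem caseB : False := by
  rcases h.sq_or h.JA (fun _ => h.tJ) h.ιtJ with ⟨j, hj, e⟩ | e
  · rcases h.sq_or (K := A ⊓ C1[s]) inf_le_left (fun _ => h.tC) h.hι with ⟨n, hn, e'⟩ | e'
    · refine h.r2 (k := n * j) (h.rf_ez ?_ h.ht)
      rw [h.mul_sq hn.1 hj.1, ← e, ← e', ← mul_assoc, h.ι2, ← h.zc]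
      exact .inr rfl
    · exact h.swap.caseB' fun j hj => h.ex_of h.ι2 e' j (h.swapJ hj)
  · exact h.caseB' (h.ex_of h.ιt2 e)

end Cb

theorem HG.no_rf {z : G} (h : HG z) {r : G} : ¬ Rf z r := fun hr => by
  obtain ⟨T⟩ : Nonempty (Sylow 2 G) := inferInstance
  obtain ⟨t, s, A, h⟩ := h.exists_cf T hr
  by_cases c : ∀ y ∈ (T : Subgroup G), y * t = t * y → y ∈ A
  · exact h.caseC c
  push Not at c
  obtain ⟨b, b1, b2, b3⟩ := c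
  by_cases c : ∀ u ∈ (T : Subgroup G), u * t = t * u → s * u * (s * u) = 1 → u ∈ A
  · exact h.caseIb c b1 b2 b3
  push Not at c
  obtain ⟨u, u1, u2, u3, u4⟩ := c
  obtain ⟨u5, ⟨x, hx, xx⟩, -⟩ := h.out u1 u2 u4
  obtain ⟨ι, hι, ι2⟩ : ∃ ι ∈ A ⊓ C1[s], ι * ι = z := by
    have a1 : s * x * s * (s * x * s) = z := by
      rw [show s * x * s * (s * x * s) = s * (x * x) * s by simp [mul_assoc, h.hs.sq'], xx, h.zm, h.hs.sq, one_mul]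
    have a2 := h.inW (h.brJ hx).1 (h.sq_div xx a1 (h.cm hx (h.sA hx)))
    rcases h.of_mul_inv (a2.resolve_right fun e => h.tJ e (h.brJ hx)) with e | e
    · exact ⟨x, h.mC.2 ⟨hx, h.fix.1 e⟩, xx⟩
    · refine ⟨x * t, h.mC.2 ⟨mul_mem hx h.tA, h.fix.1 ?_⟩, by rw [h.mul_sq hx h.tA, xx, h.ht.sq, mul_one]⟩
      calc s * (x * t) * s = s * x * s * (s * t * s) := by simp [mul_assoc, h.hs.sq']
        _ = _ := by rw [e, h.sts, ← mul_assoc, h.zm x, h.zz']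
  have a1 := h.s_cm u2
  have a2 : s * u * s = u * z := by rw [← h.inv4 u5, ← mul_eq_one_iff_eq_inv, mul_assoc, u3]
  refine Cb.caseB (c := s * u) ⟨h, h.rf_of u3 fun e => h.acn a1 (h.comm e (by simp)).symm, mul_mem h.sT u1, a1,
    by rw [Ac, a2, h.hs.sq'], fun {a} ha => ?_, hι, ι2⟩
  rw [← h.inv_A u1 u2 u4 (h.sA ha), h.inv4 u5]
  calc s * u * a * (s * u) = s * u * s * (s * a * s) * u := by simp [mul_assoc, h.hs.sq']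
    _ = _ := by rw [a2, h.zm, h.zm, mul_assoc]

end Cfsg.Lib.Div
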