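import Cfsg.Agent.Lib.Div.FusE
import Cfsg.Agent.Lib.Div.SL2
import Cfsg.Agent.Lib.Div.Reduce
import Cfsg.Agent.Lib.Cor.S3099

/-!
# Simple quotients of finite subgroups of `GL₂(D)`
-/

set_option autoImplicit false
set_option linter.unusedSectionVars false

namespace Cfsg.Lib.Div
open Module Subgroup Cfsg.Lib Cfsg.Lib.FT Cfsg.Lib.Big
open scoped commutatorElement

variable {H S : Type*} [Group H] [Group S]

/-- a minimal cover of a simple group -/
structure MS (f : H →* S) : Prop where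
  simple : IsSimpleGroup S
  nab : ¬ IsMulCommutative S
  surj : Function.Surjective f
  min : ∀ K : Subgroup H, K.map f = ⊤ → K = ⊤

variable [Finite H]

namespace MS
variable {f : H →* S} (h : MS f)
include h

theorem le_ker {K : Subgroup H} [hK : K.Normal] (e : K ≠ ⊤) : K ≤ f.ker :=
  haveI := h.simple
  (Subgroup.map_eq_bot_iff _).1 ((hK.map f h.surj).eq_bot_or_eq_top.resolve_right fun c => e (h.min K c))

theorem perf : commutator H = ⊤ := by_contra fun c => h.nab ⟨⟨fun a b => by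
  obtain ⟨a, rfl⟩ := h.surj a
  obtain ⟨b, rfl⟩ := h.surj b
  rw [← commutatorElement_eq_one_iff_mul_comm, ← map_commutatorElement]
  exact h.le_ker c (commutator_mem_commutator (mem_top a) (mem_top b))⟩⟩

theorem lift (K : Subgroup H) [K.Normal] (e : K ≤ f.ker) : MS (QuotientGroup.lift K f e) :=
  ⟨h.simple, h.nab, fun s => (h.surj s).elim fun x hx => ⟨x, hx⟩, fun L hL => by
    rw [← map_comap_eq_self_of_surjective (QuotientGroup.mk'_surjective K) L, map_map] at hL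
    rw [← map_comap_eq_self_of_surjective (QuotientGroup.mk'_surjective K) L, h.min _ hL]
    exact map_top_of_surjective _ (QuotientGroup.mk'_surjective K)⟩

theorem small {Ω : Type*} [Finite Ω] (φ : H →* Equiv.Perm Ω) (hc : Nat.card Ω ≤ 5) (hk : φ.ker ≠ ⊤) : IsoPSL2 S 5 := by
  classical
  have := Fintype.ofFinite Ω
  have := h.simple
  have := Finite.of_surjective f h.surj
  have : Nontrivial Ω := by
    by_contra c
    rw [not_nontrivial_iff_subsingleton] at c
    exact hk (eq_top_iff.2 fun g _ => Subsingleton.elim _ _)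
  have a1 : φ.range ≤ alternatingGroup Ω := by
    rintro _ ⟨g, rfl⟩
    exact Abelianization.commutator_subset_ker (Equiv.Perm.sign.comp φ) (h.perf.ge (mem_top g))
  have a2 : Nat.card S ∣ 60 := by
    have b1 := index_dvd_of_le (h.le_ker hk)
    rw [index_ker, index_ker, MonoidHom.range_eq_top.2 h.surj, card_top] at b1
    refine (b1.trans (card_dvd_of_le a1)).trans (Nat.dvd_of_mul_dvd_mul_left two_pos ?_)
    rw [two_mul_nat_card_alternatingGroup, Nat.card_perm]
    exact Nat.factorial_dvd_factorial hc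
  obtain ⟨T⟩ : Nonempty (Sylow 2 S) := inferInstance
  obtain ⟨k, hk⟩ := T.isPGroup'.exists_card_eq
  have a3 : k ≤ 2 := by
    have := (card_subgroup_dvd_card (T : Subgroup S)).trans a2
    rw [hk] at this
    by_contra c
    exact absurd ((pow_dvd_pow 2 (not_le.1 c)).trans this) (by norm_num)
  have a4 : IsMulCommutative (T : Subgroup S) := by
    interval_cases k
    · rw [card_eq_one.1 hk]; infer_instance
    · have := isCyclic_of_prime_card (p := 2) hk; infer_instance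
    · exact IsPGroup.isMulCommutative_of_card_eq_prime_sq hk
  have a5 := ((Wal.walter S h.nab (ab2_of_sylow T a4)).tor _ (.of_sylow_top T)).1
  obtain ⟨q, q1, q2, F, i1, i2, rfl, ⟨e⟩⟩ := psl2_of_card_four h.nab T (by interval_cases k <;> omega)
  refine ⟨F, i1, i2, ?_, ⟨e⟩⟩
  have a6 := GW.two_mul_card_psl2 (F := F) (Nat.odd_iff.2 (by omega))
  rw [← Nat.card_congr e.toEquiv] at a6
  have a7 := Nat.le_of_dvd (by norm_num) a2
  by_contra c
  have a8 : 6 * (6 ^ 2 - 1) ≤ Fintype.card F * (Fintype.card F ^ 2 - 1) :=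
    Nat.mul_le_mul (by omega) (Nat.sub_le_sub_right (Nat.pow_le_pow_left (by omega) 2) 1)
  omega

theorem act {Q : Type*} [Group Q] [Finite Q] (π : H →* Q) (Ω : Set Q) (hΩ : ∀ g, ∀ q ∈ Ω, π g * q * (π g)⁻¹ ∈ Ω)
    (hc : Ω.ncard ≤ 5) : IsoPSL2 S 5 ∨ ∀ g, ∀ q ∈ Ω, π g * q * (π g)⁻¹ = q := by
  let _ : MulAction H Ω :=
    { smul := fun g q => ⟨_, hΩ g q q.2⟩
      one_smul := fun q => Subtype.ext (show π 1 * q * (π 1)⁻¹ = q by simp)
      mul_smul := fun a b q => Subtype.ext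
        (show π (a * b) * q * (π (a * b))⁻¹ = π a * (π b * q * (π b)⁻¹) * (π a)⁻¹ by simp [mul_assoc]) }
  by_cases c : (MulAction.toPermHom H Ω).ker = ⊤
  · exact .inr fun g q hq => congrArg (fun φ : Equiv.Perm Ω => (φ ⟨q, hq⟩).1) (MonoidHom.mem_ker.1 (c.ge (mem_top g)))
  · exact .inl (h.small _ hc c)

variable {U : Type*} [AddCommGroup U] [Module ℚ U] {ρ : H →* End ℚ U} (d : DR ρ)
include d

theorem two : IsPGroup 2 f.ker := by
  refine IsPGroup.of_card (Nat.eq_prime_pow_of_unique_prime_dvd Nat.card_pos.ne' fun {p} hp hd => by_contra fun c => ?_)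
  have := Fact.mk hp
  obtain ⟨P, hP⟩ := exists_isSylowIn p f.ker
  have a1 := hP.le_sup_normalizer (H := ⊤) le_top le_normalizer_of_normal
  have : P.Normal := normalizer_eq_top_iff.1 (h.min _ (by
    have := map_mono (f := f) a1
    rwa [Subgroup.map_sup, map_top_of_surjective _ h.surj, (Subgroup.map_eq_bot_iff _).2 le_rfl, top_inf_eq, bot_sup_eq,
      top_le_iff] at this))
  exact hP.ne_bot hd (d.odd_bot h.perf c hP.isPGroup)

theorem ker_ne : f.ker ≠ ⊥ := fun e => by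
  have := h.simple
  let φ := MulEquiv.ofBijective f ⟨(MonoidHom.ker_eq_bot_iff f).1 e, h.surj⟩
  have := φ.isSimpleGroup
  have nab : ¬ IsMulCommutative H := fun _ => h.nab ⟨⟨fun a b => φ.symm.injective (by
    rw [map_mul, map_mul]; exact IsMulCommutative.is_comm.comm _ _)⟩⟩
  have hO := oddCore_eq_bot_of_simple nab
  obtain ⟨t, ht⟩ := exists_prime_orderOf_dvd_card' (G := H) 2 (by_contra fun c => top_ne_bot (le_bot_iff.1 (LE.le.trans (b := oddCore H)
    (le_sSup ⟨inferInstance, by rwa [card_top, Nat.coprime_comm, Nat.prime_two.coprime_iff_not_dvd]⟩) hO.le)))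
  have tt := BSW.mul_self_of_orderOf_two ht
  have t1 := ne_one_of_orderOf_two ht
  have k : ∀ x, ρ x = -1 → x = 1 := fun x e =>
    mem_bot.1 (pg_center_eq_bot_of_simple nab ▸ mem_center_iff.2 (d.central_of_neg e))
  refine t1 (mem_bot.1 (pg_center_eq_bot_of_simple nab ▸ zstar_center hO (by rw [sq, tt]) fun g hg => by_contra fun c => ?_))
  have c' : t * (g * t * g⁻¹) ≠ 1 := fun e => c (mul_left_cancel (e.trans tt.symm))
  rcases d.four tt (by rw [conj_mul, tt]; simp) hg t1 (by simpa using t1) c' with e | e | e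
  exacts [t1 (k _ e), t1 (by simpa using k _ e), c' (k _ e)]

theorem exists_z : ∃ z ∈ f.ker, ρ z = -1 := by
  obtain ⟨x, hx, h1, h2⟩ := pg_exists_fixed_of_order_p (h.two d) (h.two d) le_normalizer (h.ker_ne d)
  have tt := BSW.mul_self_of_orderOf_two h1
  have t1 := ne_one_of_orderOf_two h1
  by_cases c : ∀ g, g * x * g⁻¹ = x
  · exact ⟨x, hx, d.central_neg (fun g => mul_inv_eq_iff_eq_mul.1 (c g)) tt t1⟩
  push Not at c
  obtain ⟨g, c⟩ := c
  have m := f.normal_ker.conj_mem x hx g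
  rcases d.four tt (by rw [conj_mul, tt]; simp) (h2 _ m).symm t1 (by simpa using t1)
    (fun e => c (mul_left_cancel (e.trans tt.symm))) with e | e | e
  exacts [⟨_, hx, e⟩, ⟨_, m, e⟩, ⟨_, mul_mem hx m, e⟩]

omit h in
theorem ha0 {z : H} (hz : ρ z = -1) : HA0 z := by
  have zz : z * z = 1 := d.inj (by simp [hz])
  have k : ∀ {x}, ρ x = -1 → x = z := fun e => d.inj (e.trans hz.symm)
  refine ⟨d.central_of_neg hz, zz, fun e => ?_, fun {r u} hr uu c => ?_⟩
  · have := Module.nontrivial_of_finrank_pos d.pos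
    obtain ⟨v, hv⟩ := exists_ne (0 : U)
    have := congrArg (· v) (e ▸ hz)
    simp only [map_one, End.one_apply, LinearMap.neg_apply] at this
    exact hv ((smul_eq_zero.1 (show (2 : ℚ) • v = 0 by rw [two_smul]; nth_rw 1 [this]; simp)).resolve_left two_ne_zero)
  · by_contra! x
    rcases d.four hr.sq uu c.symm hr.n1 (fun e => x.1 (.inl e))
      (fun e => x.2 (.inl (mul_left_cancel (e.trans hr.sq.symm)))) with e | e | e
    exacts [hr.nz (k e), x.1 (ez_one.2 (.inr (k e))), x.2 (.inr (by rw [← k e, hr.sq']))]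

omit h in
theorem cen_inv {z : H} (hz : ρ z = -1) {x : H} (hx : x ∈ center H) (xx : x * x = 1) : Ez z x 1 :=
  ez_one.2 (or_iff_not_imp_left.2 fun e => d.inj ((d.central_neg (mem_center_iff.1 hx) xx e).trans hz.symm))

theorem noncentral (hn : ¬ f.ker ≤ center H) : IsoPSL2 S 5 := by
  obtain ⟨z, -, hz⟩ := h.exists_z d
  have a := ha0 d hz
  obtain ⟨B, ⟨hB, B1, B2⟩, hmin⟩ := (wellFounded_lt (α := Subgroup H)).has_min
    {B | B.Normal ∧ B ≤ f.ker ∧ ¬ B ≤ center H} ⟨_, inferInstance, le_rfl, hn⟩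
  have mn : ∀ K : Subgroup H, K.Normal → K ≤ B → ¬ K ≤ center H → B ≤ K := fun K h1 h2 h3 =>
    (eq_of_le_of_not_lt h2 (hmin K ⟨h1, h2.trans B1, h3⟩)).ge
  have p2 := (h.two d).to_le B1
  let π := QuotientGroup.mk' (center H)
  have hπ : ∀ {x}, π x = 1 ↔ x ∈ center H := fun {x} => QuotientGroup.eq_one_iff x
  have c1 : ¬ ⁅B, ⊤⁆ ≤ center H := fun c => B2 (by
    have e : ⁅⁅B, ⊤⁆, (⊤ : Subgroup H)⁆ = ⊥ := commutator_eq_bot_iff_le_centralizer.2 (by rwa [coe_top, centralizer_univ])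
    have := commutator_commutator_eq_bot_of_rotate (H₁ := ⊤) (H₂ := ⊤) (H₃ := B) (by rwa [commutator_comm ⊤ B]) e
    rw [← commutator_def, h.perf, commutator_comm, commutator_eq_bot_iff_le_centralizer] at this
    rwa [coe_top, centralizer_univ] at this)
  obtain ⟨x, hx, x1, x2, x3⟩ := pg_exists_fixed_mod (K := B ⊓ center H) p2 p2 le_normalizer
    (lt_of_le_of_ne inf_le_left fun e => B2 (inf_eq_left.1 e)) le_normalizer_of_normal le_normalizer_of_normal
  let K : Subgroup H :=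
    { carrier := {y | y ∈ B ∧ π y * π y = 1 ∧ ∀ b ∈ B, Commute (π y) (π b)}
      mul_mem' := fun {a b} ha hb => ⟨mul_mem ha.1 hb.1, by
        rw [map_mul, ← sq, (ha.2.2 b hb.1).mul_pow, sq, sq, ha.2.1, hb.2.1, mul_one],
        fun c hc => map_mul π a b ▸ (ha.2.2 c hc).mul_left (hb.2.2 c hc)⟩
      one_mem' := ⟨one_mem _, by simp, fun _ _ => by simp⟩
      inv_mem' := fun {a} ha => ⟨inv_mem ha.1, by rw [map_inv, ← mul_inv_rev, ha.2.1, inv_one],
        fun c hc => map_inv π a ▸ (ha.2.2 c hc).inv_left⟩ }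
  have hK := mn K ⟨fun y hy g => ⟨hB.conj_mem _ hy.1 g, by simp only [map_mul, map_inv, conj_mul, hy.2.1]; simp,
      fun b hb => by
        have := (hy.2.2 _ (hB.conj_mem' _ hb g)).eq
        simp only [map_mul, map_inv] at this ⊢
        exact conj_comm this⟩⟩
    (fun _ e => e.1) fun e => x1 ⟨hx, e ⟨hx, by rw [← map_mul, hπ, ← sq]; exact x2.2, fun b hb => by
      rw [← commutatorElement_eq_one_iff_commute, ← map_commutatorElement, hπ]; exact (x3 b hb).2⟩⟩
  have nz : ∀ x ∈ B, ∀ y ∈ B, x ∈ a.NZ y := fun x hx y hy => by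
    have b1 : ⁅x, y⁆ ∈ center H := by
      rw [← hπ, map_commutatorElement, commutatorElement_eq_one_iff_commute]; exact (hK hx).2.2 y hy
    have b2 : x * x ∈ center H := by rw [← hπ, map_mul]; exact (hK hx).2.1
    refine a.of_mul_inv (cen_inv d hz b1 ?_)
    calc ⁅x, y⁆ * ⁅x, y⁆ = x * ⁅x, y⁆ * x⁻¹ * ⁅x, y⁆ := by rw [mem_center_iff.1 b1 x, mul_inv_cancel_right]
      _ = x * x * y * (x * x)⁻¹ * y⁻¹ := by simp [commutatorElement_def, mul_assoc]
      _ = 1 := by rw [← mem_center_iff.1 b2]; group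
  have : (zpowers z).Normal := pg_normal_zpowers_of_mem_center (mem_center_iff.2 a.zc)
  let σ := QuotientGroup.mk' (zpowers z)
  have hσ : ∀ {x y}, σ x = σ y ↔ Ez z x y := fun {x y} => ⟨fun e =>
    (pg_mem_zpowers_order_two (by rw [sq, a.zz]) (QuotientGroup.eq.1 e.symm)).imp (fun e => (inv_mul_eq_one.1 e).symm)
      inv_mul_eq_iff_eq_mul.1, by
    rintro (rfl | rfl)
    exacts [rfl, QuotientGroup.mk_mul_of_mem _ (mem_zpowers z)]⟩
  refine (h.act σ (σ '' {r | r ∈ B ∧ Rf z r}) (by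
    rintro g _ ⟨r, hr, rfl⟩
    exact ⟨_, ⟨hB.conj_mem _ hr.1 g, a.rf_conj hr.2 g⟩, by simp⟩) (by_contra fun c => ?_)).elim id fun c => ?_
  · obtain ⟨s, hs, e⟩ := Set.exists_subset_card_eq (not_le.1 c)
    obtain ⟨q, hq⟩ : ∃ q : Fin 6 → s, Function.Injective q := by
      have := Finite.equivFinOfCardEq (α := s) e
      exact ⟨_, this.symm.injective⟩
    choose r hr er using fun i => hs (q i).2
    have ac : ∀ i j, i ≠ j → Ac z (r i) (r j) := fun i j e => (a.nz_cases (nz _ (hr i).1 _ (hr j).1)).resolve_left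
      fun c => e (hq (Subtype.ext (by rw [← er, ← er, hσ]; exact a.rr (hr j).2 (hr i).2 c)))
    have k : ∀ i, i ≠ 1 → i ≠ 2 → i ≠ 3 → i ≠ 4 → r 1 * r 2 * (r 3 * r 4) * r i = r i * (r 1 * r 2 * (r 3 * r 4)) :=
      fun i h1 h2 h3 h4 => Commute.mul_left (a.ac_mul (ac _ _ h1.symm) (ac _ _ h2.symm))
        (a.ac_mul (ac _ _ h3.symm) (ac _ _ h4.symm))
    have w2 : r 1 * r 2 * (r 3 * r 4) * (r 1 * r 2 * (r 3 * r 4)) = 1 := by
      have : Commute (r 3 * r 4) (r 1 * r 2) := Commute.mul_right (a.ac_mul (ac 3 1 (by decide)) (ac 4 1 (by decide)))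
        (a.ac_mul (ac 3 2 (by decide)) (ac 4 2 (by decide)))
      rw [← sq, this.symm.mul_pow, sq, sq, a.ac_sq (hr 1).2 (hr 2).2 (ac _ _ (by decide)),
        a.ac_sq (hr 3).2 (hr 4).2 (ac _ _ (by decide)), a.zz]
    have w1 : ¬ Ez z (r 1 * r 2 * (r 3 * r 4)) 1 := fun e => a.acn (a.ac_mul' (a.acs (show Ac z (r 1) (r 1 * r 2) by
      rw [Ac, mul_assoc, mul_assoc, ← mul_assoc (r 2), ← ac 1 2 (by decide)]))
        (a.ac_mul (ac 3 1 (by decide)) (ac 4 1 (by decide)))) (a.comm e (g := r 1) (by simp)).symm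
    have e0 := (a.r1 (hr 0).2 w2 (k 0 (by decide) (by decide) (by decide) (by decide))).resolve_left w1
    have e5 := (a.r1 (hr 5).2 w2 (k 5 (by decide) (by decide) (by decide) (by decide))).resolve_left w1
    exact a.acn (ac 0 5 (by decide)) (a.comm (a.trans (a.symm e5) e0) rfl)
  have nr : ∀ r ∈ B, r * r = 1 → Ez z r 1 := fun r hr e => by_contra fun e' => e' (cen_inv d hz (by
    have k : ∀ g, g ∉ C1[r] → Ac z g r := fun g hg => (a.nz_cases (hσ.1 (by
      simpa using c g _ ⟨r, ⟨hr, a.rf_of e e'⟩, rfl⟩))).resolve_left (mt mem_centralizer_singleton_iff.2 hg)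
    have := eq_top_of_perfect h.perf (M := C1[r]) fun x hx y hy =>
      mem_centralizer_singleton_iff.2 (a.ac_mul (k x hx) (k y hy))
    exact mem_center_iff.2 fun g => mem_centralizer_singleton_iff.1 (this.ge (mem_top g))) e)
  have k : ∀ a : B, orderOf a = 2 → (a : H) = z := fun a ha => (ez_one.1 (nr _ a.2
    (congrArg Subtype.val (BSW.mul_self_of_orderOf_two ha)))).resolve_left
      fun e => ne_one_of_orderOf_two ha (Subtype.ext e)
  rcases pg_two_group_unique_involution p2 (fun a b ha hb => Subtype.ext ((k a ha).trans (k b hb).symm)) with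
    c | ⟨m, u, v, -, -, -, hi, hv, -⟩
  · exact (B2 fun x hx => mem_center_iff.2 (central_of_cyclic h.perf hx)).elim
  refine (h.act π (π '' B) (by
    rintro g _ ⟨r, hr, rfl⟩
    exact ⟨_, hB.conj_mem _ hr g, by simp⟩) ?_).elim id fun c => (c1 (commutator_le.2 fun x hx g _ => ?_)).elim
  · have k : ∀ x ∈ zpowers u, π x = 1 ∨ π x = π u := by
      rintro _ ⟨n, rfl⟩
      exact pg_mem_zpowers_order_two (by rw [sq]; exact (hK u.2).2.1) ⟨n, by simp⟩
    refine (Set.ncard_le_ncard (t := {1, π u, π v, π v * π u}) ?_).trans (Set.ncard_insert_le _ _ |>.trans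
      (Nat.succ_le_succ (Set.ncard_insert_le _ _ |>.trans (Nat.succ_le_succ (Set.ncard_insert_le _ _ |>.trans (by simp))))))
    rintro _ ⟨x, hx, rfl⟩
    by_cases e : (⟨x, hx⟩ : B) ∈ zpowers u
    · rcases k _ e with e | e <;> simp [show π x = _ from e]
    · rcases k _ ((mul_mem_iff_of_index_two hi (a := v⁻¹) (b := ⟨x, hx⟩)).2 (by simp [hv, e])) with e | e <;>
        simp only [coe_mul, coe_inv, map_mul, map_inv, inv_mul_eq_iff_eq_mul] at e <;> simp [e]
  · rw [← hπ, map_commutatorElement, commutatorElement_eq_one_iff_mul_comm]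
    exact (mul_inv_eq_iff_eq_mul.1 (c g _ ⟨x, hx, rfl⟩)).symm

theorem central (hn : f.ker ≤ center H) : IsoPSL2 S 5 ∨ IsoPSL2 S 9 := by
  obtain ⟨z, -, hz⟩ := h.exists_z d
  have a := ha0 d hz
  have := h.simple
  have := Finite.of_surjective f h.surj
  have e1 : center H = f.ker := le_antisymm (h.le_ker fun e => h.nab ⟨⟨fun x y => by
    obtain ⟨x, rfl⟩ := h.surj x
    obtain ⟨y, rfl⟩ := h.surj y
    rw [← map_mul, ← map_mul, mem_center_iff.1 (e.ge (mem_top y))]⟩⟩) hn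
  let φ : H ⧸ center H ≃* S := (QuotientGroup.quotientMulEquivOfEq e1).trans
    (QuotientGroup.quotientKerEquivOfSurjective f h.surj)
  have e2 : pCore 2 H ≤ center H := e1 ▸ h.le_ker fun e => h.nab (by
    have := (((e ▸ isPGroup_pCore : IsPGroup 2 (⊤ : Subgroup H)).of_equiv topEquiv).of_surjective f h.surj).isNilpotent
    exact ⟨⟨IsSimpleGroup.comm_iff_isSolvable.2 inferInstance⟩⟩)
  have hg : HG z := ⟨⟨a, fun e => d.not_sq hz e.sq fun c => a.rf_ne e (cen_inv d hz (e2 c) e.sq)⟩, h.perf,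
    φ.isSimpleGroup, fun _ => h.nab ⟨⟨fun x y => φ.symm.injective (by
      rw [map_mul, map_mul]; exact IsMulCommutative.is_comm.comm _ _)⟩⟩, e1 ▸ h.two d,
    fun e c => a.rf_ne e (cen_inv d hz c e.sq)⟩
  have oz : orderOf z = 2 := BSW.orderOf_two_of_mul_self a.z1 a.zz
  have ev : 2 ∣ Nat.card H := oz ▸ orderOf_dvd_natCard z
  have e3 : oddCore H = ⊥ := by
    have o := odd_card_oddCore (G := H)
    obtain ⟨k, hk⟩ := ((h.two d).to_le (h.le_ker (K := oddCore H) fun e => by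
      rw [e, card_top] at o; exact o.not_two_dvd_nat ev)).exists_card_eq
    exact card_eq_one.1 (Nat.eq_one_of_dvd_coprimes (Nat.Coprime.pow_right k (Nat.coprime_two_right.2 o)) dvd_rfl
      hk.dvd)
  let ψ : H ⧸ oddCore H ≃* H := (QuotientGroup.quotientMulEquivOfEq e3).trans QuotientGroup.quotientBot
  rcases Cor.s3099 ⟨h.perf⟩ (fun A _ hA => (card_le_of_le (K := zpowers z) fun x hx => by
      rcases ez_one.1 (by_contra fun c => hg.no_rf (a.rf_of (sq x ▸ hA x hx) c)) with rfl | rfl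
      exacts [one_mem _, mem_zpowers _]).trans (by rw [Nat.card_zpowers, oz]; rfl)) (even_iff_two_dvd.2 ev) with
    ⟨F, _, _, h1, h3, ⟨e⟩⟩ | ⟨h1, ⟨e⟩, -⟩
  · obtain ⟨e'⟩ := PC.nonempty_quotient_center_congr (ψ.symm.trans e)
    exact ((d.comp (e.symm.trans ψ)).sl2 h1 h3).imp (fun c => ⟨F, _, _, c, ⟨φ.symm.trans e'⟩⟩)
      fun c => ⟨F, _, _, c, ⟨φ.symm.trans e'⟩⟩
  have d' := d.comp ψ
  generalize ρ.comp ψ.toMonoidHom = σ at d'
  have : Finite (H ⧸ oddCore H) := inferInstance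
  generalize_proofs at h1 e
  exfalso
  let g := e.toMonoidHom.comp (QuotientGroup.mk' _)
  have hg : ∀ {x}, g x = 1 → x ∈ center _ := fun c => (QuotientGroup.eq_one_iff _).1 (e.map_eq_one_iff.1 c)
  have h2 : ∀ {x}, g x = 1 → x ^ 2 = 1 := fun c => congrArg Subtype.val (h1 ▸ pow_card_eq_one' (x := (⟨_, hg c⟩ : center _)))
  have sj : Function.Surjective g := e.surjective.comp (QuotientGroup.mk'_surjective _)
  obtain ⟨u, hu⟩ := sj ⟨⟨![1, 2, 3, 4, 5, 6, 0], ![6, 0, 1, 2, 3, 4, 5], by decide, by decide⟩,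
    Equiv.Perm.mem_alternatingGroup.2 (by decide)⟩
  obtain ⟨x, hx⟩ := sj ⟨⟨![0, 2, 4, 6, 1, 3, 5], ![0, 4, 1, 5, 2, 6, 3], by decide, by decide⟩,
    Equiv.Perm.mem_alternatingGroup.2 (by decide)⟩
  have u7 : (u ^ 8) ^ 7 = 1 := by
    rw [← pow_mul, show 8 * 7 = 7 * 2 * 4 from rfl, pow_mul, pow_mul, h2 (by rw [map_pow, hu]; decide), one_pow]
  have w1 : g (x ^ 4 * u ^ 8 * (x ^ 4)⁻¹ * ((u ^ 8) ^ 2)⁻¹) = 1 := by
    simp only [map_mul, map_inv, map_pow, hu, hx]; decide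
  refine d'.frob73 (u := u ^ 8) (x := x ^ 4) (fun c => ?_) ?_ ?_ fun c => ?_
  · exact absurd (congrArg g c) (by rw [map_pow, hu, map_one]; decide)
  · have w2 := h2 w1
    have w3 := mem_center_iff.1 (hg w1)
    have w4 : x ^ 4 * u ^ 8 * (x ^ 4)⁻¹ = x ^ 4 * u ^ 8 * (x ^ 4)⁻¹ * ((u ^ 8) ^ 2)⁻¹ * (u ^ 8) ^ 2 := by simp
    generalize x ^ 4 * u ^ 8 * (x ^ 4)⁻¹ * ((u ^ 8) ^ 2)⁻¹ = w at w2 w3 w4
    generalize x ^ 4 = a, u ^ 8 = b at w4 u7 ⊢
    have w5 : (a * b * a⁻¹) ^ 7 = (w * b ^ 2) ^ 7 := by rw [w4]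
    rw [conj_pow, u7, (Commute.symm (w3 _)).mul_pow, ← pow_mul b, mul_comm 2, pow_mul b, u7,
      show w ^ 7 = (w ^ 2) ^ 3 * w by group, w2] at w5
    rw [w4, show w = 1 by simpa using w5.symm, one_mul]
  · rw [← pow_mul, show 4 * 3 = 3 * 2 * 2 from rfl, pow_mul, pow_mul, h2 (x := x ^ 3) (by rw [map_pow, hx]; decide),
      one_pow]
  · exact absurd (congrArg g c) (by rw [map_pow, hx, map_one]; decide)

end MS

theorem gl2 {D : Type*} [DivisionRing D] [CharZero D] (φ : H →* (Matrix (Fin 2) (Fin 2) D)ˣ)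
    (hφ : Function.Injective φ) (f : H →* S) [hS : IsSimpleGroup S] (nab : ¬ IsMulCommutative S)
    (surj : Function.Surjective f) : (IsoPSL2 S 5 ∨ IsoPSL2 S 9) ∧ f.ker ≠ ⊥ := by
  obtain ⟨K, hK, hmin⟩ := (wellFounded_lt (α := Subgroup H)).has_min {K | K.map f = ⊤}
    ⟨⊤, map_top_of_surjective _ surj⟩
  have h : MS (f.comp K.subtype) := ⟨hS, nab, fun s => by
    obtain ⟨x, hx, rfl⟩ := hK.ge (mem_top s)
    exact ⟨⟨x, hx⟩, rfl⟩, fun L hL => map_injective K.subtype_injective (by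
      rw [← map_map] at hL
      rw [← MonoidHom.range_eq_map, range_subtype]
      exact eq_of_le_of_not_lt (map_subtype_le _) (hmin _ hL))⟩
  obtain ⟨s, hs⟩ := exists_ne (1 : S)
  obtain ⟨x, rfl⟩ := h.surj s
  obtain ⟨U, _, _, ρ, d, y, hy⟩ := exists_dr (φ.comp K.subtype) (h0 := x) fun e => hs (by
    rw [show x = 1 from Subtype.ext (hφ (e.trans φ.map_one.symm)), map_one])
  have e := h.le_ker (K := ρ.ker) fun c => hy (c.ge (mem_top y))
  have h' := h.lift _ e
  have d' : DR (QuotientGroup.lift ρ.ker ρ le_rfl) := ⟨by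
    convert d using 1
    ext F
    exact ⟨fun ⟨q, hq⟩ => by obtain ⟨q, rfl⟩ := QuotientGroup.mk_surjective q; exact ⟨q, hq⟩,
      fun ⟨q, hq⟩ => ⟨q, hq⟩⟩, (injective_iff_map_eq_one _).2 fun q hq => by
    obtain ⟨q, rfl⟩ := QuotientGroup.mk_surjective q
    exact (QuotientGroup.eq_one_iff q).2 hq⟩
  refine ⟨(em _).elim (h'.central d') fun c => .inl (h'.noncentral d' c), fun c => h'.ker_ne d' (eq_bot_iff.2 fun q hq => ?_)⟩
  obtain ⟨q, rfl⟩ := QuotientGroup.mk_surjective q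
  rw [show q = 1 from Subtype.ext (mem_bot.1 (c.le hq))]
  exact one_mem _

end Cfsg.Lib.Div
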